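import Mathlib

/-!
# Tools for identifying the Mathieu groups of degree 22 and 23

Fixed point congruences for commuting elements, Witt's lemma on pairs, small facts on five points.
-/

set_option autoImplicit false
open scoped Pointwise

namespace CfsgLib.KGroups.MathieuIdent

section Action

variable {G : Type*} [Group G] (α : Type*) [MulAction G α] [Fintype α] [DecidableEq α]

/-- The fixed points of `g`. -/
def Fix (g : G) : Finset α := Finset.univ.filter fun x => g • x = x

variable {α}

theorem mem_fix {g : G} {x : α} : x ∈ Fix α g ↔ g • x = x := by simp [Fix]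

theorem fix_conj (h g : G) : Fix α (h * g * h⁻¹) = (Fix α g).image (h • ·) := by
  ext x
  simp only [mem_fix, Finset.mem_image, mul_smul]
  constructor
  · intro e
    exact ⟨h⁻¹ • x, (smul_left_cancel_iff h).mp (by rw [e, smul_inv_smul]), smul_inv_smul h x⟩
  · rintro ⟨y, hy, rfl⟩
    rw [inv_smul_smul, hy]

theorem card_fix_conj (h g : G) : (Fix α (h * g * h⁻¹)).card = (Fix α g).card := by
  rw [fix_conj, Finset.card_image_of_injective _ (MulAction.injective h)]

theorem fix_eq_univ [FaithfulSMul G α] {g : G} (h : Fix α g = Finset.univ) : g = 1 :=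
  eq_of_smul_eq_smul (α := α) fun x => by
    rw [one_smul]; exact mem_fix.mp (h ▸ Finset.mem_univ x)

theorem card_fix_lt [FaithfulSMul G α] {g : G} (hg : g ≠ 1) : (Fix α g).card < Fintype.card α :=
  lt_of_le_of_ne (Finset.card_le_univ _) fun h => hg (fix_eq_univ (Finset.eq_univ_of_card _ h))

theorem smul_mem_fix {g h : G} (hc : Commute g h) {x : α} (hx : x ∈ Fix α h) : g • x ∈ Fix α h := by
  rw [mem_fix] at hx ⊢
  rw [← mul_smul, ← hc.eq, mul_smul, hx]

theorem smul_mem_compl_fix {g h : G} (hc : Commute g h) {x : α} (hx : x ∈ (Fix α h)ᶜ) :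
    g • x ∈ (Fix α h)ᶜ := by
  rw [Finset.mem_compl] at hx ⊢
  intro hgx
  have := smul_mem_fix hc.inv_left hgx
  rw [inv_smul_smul] at this
  exact hx this

/-- An element of prime order moves a number of points of an invariant set divisible by the prime. -/
theorem mod_fix {g : G} {p : ℕ} (hp : p.Prime) (hg : g ^ p = 1) (S : Finset α)
    (hS : ∀ x ∈ S, g • x ∈ S) : S.card % p = (S ∩ Fix α g).card % p := by
  have : Fact p.Prime := ⟨hp⟩
  set π : Equiv.Perm α := MulAction.toPerm g
  have himg : S.image π = S := Finset.eq_of_subset_of_card_le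
    (Finset.image_subset_iff.mpr hS) (by rw [Finset.card_image_of_injective _ π.injective])
  have hiff : ∀ x, π x ∈ S ↔ x ∈ S := fun x => by
    refine ⟨fun h => ?_, hS x⟩
    rw [← himg] at h
    obtain ⟨y, hy, e⟩ := Finset.mem_image.mp h
    exact π.injective e ▸ hy
  set σ : Equiv.Perm {x // x ∈ S} := π.subtypePerm hiff
  have hσ : σ ^ p ^ 1 = 1 := by
    have e : π ^ p = 1 := by
      rw [show π = MulAction.toPermHom G α g from rfl, ← map_pow, hg, map_one]
    rw [pow_one, Equiv.Perm.subtypePerm_pow]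
    ext x
    simp [e]
  have h := Equiv.Perm.card_compl_support_modEq hσ
  have hc : σ.supportᶜ.card = (S ∩ Fix α g).card := by
    refine Finset.card_bij (fun x _ => (x : α)) ?_ (fun _ _ _ _ e => Subtype.ext e) ?_
    · intro x hx
      simp only [Finset.mem_compl, Equiv.Perm.mem_support, not_not] at hx
      exact Finset.mem_inter.mpr ⟨x.2, mem_fix.mpr (congrArg Subtype.val hx)⟩
    · intro x hx
      obtain ⟨h1, h2⟩ := Finset.mem_inter.mp hx
      refine ⟨⟨x, h1⟩, ?_, rfl⟩
      simpa [Finset.mem_compl, Equiv.Perm.mem_support, σ, π, Subtype.ext_iff] using mem_fix.mp h2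
  rw [hc, Fintype.card_coe] at h
  exact h.symm

theorem card_fix_mod {g : G} {p : ℕ} (hp : p.Prime) (hg : g ^ p = 1) :
    (Fix α g).card % p = Fintype.card α % p := by
  have := mod_fix hp hg (Finset.univ : Finset α) (fun _ _ => Finset.mem_univ _)
  rw [Finset.univ_inter, Finset.card_univ] at this
  exact this.symm

/-- The four numbers describing two commuting elements of prime orders. -/
theorem commute_counts {g h : G} {p q : ℕ} (hp : p.Prime) (hq : q.Prime) (hpq : p ≠ q)
    (hg : g ^ p = 1) (hh : h ^ q = 1) (hc : Commute g h) :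
    p * q ∣ ((Fix α g)ᶜ ∩ (Fix α h)ᶜ).card ∧ p ∣ ((Fix α g)ᶜ ∩ Fix α h).card ∧
      q ∣ (Fix α g ∩ (Fix α h)ᶜ).card ∧
      (Fix α g ∩ Fix α h).card + (Fix α g ∩ (Fix α h)ᶜ).card = (Fix α g).card ∧
      (Fix α g ∩ Fix α h).card + ((Fix α g)ᶜ ∩ Fix α h).card = (Fix α h).card ∧
      (Fix α g).card + ((Fix α g)ᶜ ∩ Fix α h).card + ((Fix α g)ᶜ ∩ (Fix α h)ᶜ).card
        = Fintype.card α := by
  have self : ∀ (k : G) (S : Finset α), ((Fix α k)ᶜ ∩ S) ∩ Fix α k = ∅ := fun k S => by
    ext x; simp; tauto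
  have key : ∀ {g h : G} {p : ℕ}, p.Prime → g ^ p = 1 → Commute g h →
      p ∣ ((Fix α g)ᶜ ∩ (Fix α h)ᶜ).card ∧ p ∣ ((Fix α g)ᶜ ∩ Fix α h).card := by
    intro g h p hp hg hc
    constructor
    · have := mod_fix hp hg ((Fix α g)ᶜ ∩ (Fix α h)ᶜ) fun x hx => by
        rw [Finset.mem_inter] at hx ⊢
        exact ⟨smul_mem_compl_fix (Commute.refl g) hx.1, smul_mem_compl_fix hc hx.2⟩
      rw [self, Finset.card_empty, Nat.zero_mod] at this
      exact Nat.dvd_of_mod_eq_zero this
    · have := mod_fix hp hg ((Fix α g)ᶜ ∩ Fix α h) fun x hx => by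
        rw [Finset.mem_inter] at hx ⊢
        exact ⟨smul_mem_compl_fix (Commute.refl g) hx.1, smul_mem_fix hc hx.2⟩
      rw [self, Finset.card_empty, Nat.zero_mod] at this
      exact Nat.dvd_of_mod_eq_zero this
  have split : ∀ S T : Finset α, (S ∩ T).card + (S ∩ Tᶜ).card = S.card := fun S T => by
    rw [← Finset.sdiff_eq_inter_compl, Finset.card_inter_add_card_sdiff]
  obtain ⟨a1, a2⟩ := key hp hg hc
  obtain ⟨b1, b2⟩ := key hq hh hc.symm
  rw [Finset.inter_comm] at b1 b2
  refine ⟨(Nat.coprime_primes hp hq).mpr hpq |>.mul_dvd_of_dvd_of_dvd a1 b1, a2, b2, split _ _, ?_, ?_⟩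
  · rw [Finset.inter_comm (Fix α g), Finset.inter_comm (Fix α g)ᶜ]; exact split _ _
  · rw [add_assoc, split, Finset.card_add_card_compl]

theorem mem_normalizer_of_map {H : Subgroup G} {g : G}
    (h : H.map (MulAut.conj g).toMonoidHom = H) : g ∈ Subgroup.normalizer (H : Set G) := by
  rw [Subgroup.mem_normalizer_iff]
  intro x
  constructor
  · intro hx
    rw [← h]
    exact ⟨x, hx, rfl⟩
  · intro hx
    rw [← h] at hx
    obtain ⟨z, hz, e⟩ := hx
    have : z = x := (MulAut.conj g).injective e
    exact this ▸ hz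

variable [Finite G]

/-- Witt's lemma for ordered pairs and a Sylow subgroup of prime order of the two-point stabiliser. -/
theorem witt_pairs [MulAction.IsMultiplyPretransitive G α 2] {y : G} {q : ℕ} (hq : q.Prime)
    (hy : orderOf y = q) {a b : α} (hab : a ≠ b) (ha : y • a = a) (hb : y • b = b)
    (hsq : ¬ q ^ 2 ∣ Nat.card ↥(MulAction.stabilizer G a ⊓ MulAction.stabilizer G b)) :
    ((Fix α y).card * (Fix α y).card - (Fix α y).card) ∣
      Nat.card ↥(Subgroup.normalizer ((Subgroup.zpowers y : Subgroup G) : Set G)) := by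
  classical
  have : Fact q.Prime := ⟨hq⟩
  set N := Subgroup.normalizer ((Subgroup.zpowers y : Subgroup G) : Set G)
  set K := MulAction.stabilizer G a ⊓ MulAction.stabilizer G b
  have h2 : ∀ {a b c d : α}, a ≠ b → c ≠ d → ∃ g : G, g • a = c ∧ g • b = d :=
    fun {a b c d} => (MulAction.is_two_pretransitive_iff (G := G) (α := α)).mp inferInstance
  have horb : MulAction.orbit ↥N (a, b) = ((Fix α y).offDiag : Set (α × α)) := by
    ext ⟨c, d⟩
    simp only [MulAction.mem_orbit_iff, Subgroup.smul_def, Prod.smul_def, Finset.mem_coe,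
      Finset.mem_offDiag, mem_fix, Prod.mk.injEq]
    constructor
    · rintro ⟨⟨n, hn⟩, e1, e2⟩
      simp only at e1 e2
      obtain ⟨k, hk⟩ := Subgroup.mem_zpowers_iff.mp
        ((Subgroup.mem_normalizer_iff''.mp hn y).mp (Subgroup.mem_zpowers y))
      have fixz : ∀ x : α, y • x = x → (y ^ k) • x = x := fun x hx => by
        have : y ∈ MulAction.stabilizer G x := hx
        exact Subgroup.zpow_mem _ this k
      have mv : ∀ x : α, y • x = x → y • (n • x) = n • x := fun x hx => by
        have := fixz x hx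
        rw [hk, mul_smul, mul_smul] at this
        simpa using congrArg (n • ·) this
      refine ⟨e1 ▸ mv a ha, e2 ▸ mv b hb, ?_⟩
      rw [← e1, ← e2]
      exact fun h => hab (smul_left_cancel n h)
    · rintro ⟨hc, hd, hcd⟩
      obtain ⟨g, rfl, rfl⟩ := h2 hab hcd
      have hy1 : y ∈ K := ⟨ha, hb⟩
      have hy2 : g⁻¹ * y * g ∈ K := by
        constructor <;> simp [mul_smul, hc, hd]
      have hcard : ∀ z : G, orderOf z = q → z ∈ K →
          ∃ P : Sylow q K, (P : Subgroup K).map K.subtype = Subgroup.zpowers z := by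
        intro z hz hzK
        have hzo : orderOf (⟨z, hzK⟩ : K) = q := by rw [← Subgroup.orderOf_coe]; exact hz
        have hp : IsPGroup q (Subgroup.zpowers (⟨z, hzK⟩ : K)) :=
          IsPGroup.of_card (n := 1) (by rw [Nat.card_zpowers, hzo, pow_one])
        obtain ⟨P, hP⟩ := hp.exists_le_sylow
        refine ⟨P, ?_⟩
        have hPc : Nat.card (P : Subgroup K) = q := by
          rw [P.card_eq_multiplicity]
          have h1 : q ∣ Nat.card K := hzo ▸ orderOf_dvd_natCard _
          have hv : (Nat.card K).factorization q = 1 := by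
            refine le_antisymm ?_ (hq.factorization_pos_of_dvd Nat.card_pos.ne' h1)
            by_contra h
            exact hsq ((hq.pow_dvd_iff_le_factorization Nat.card_pos.ne').mpr (by omega))
          rw [hv, pow_one]
        have : Subgroup.zpowers (⟨z, hzK⟩ : K) = (P : Subgroup K) :=
          Subgroup.eq_of_le_of_card_ge hP (by rw [hPc, Nat.card_zpowers, hzo])
        rw [← this, MonoidHom.map_zpowers]
        rfl
      obtain ⟨P1, hP1⟩ := hcard y hy hy1
      obtain ⟨P2, hP2⟩ := hcard (g⁻¹ * y * g)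
        (by rw [← hy]; exact ((MulAut.conj g⁻¹).orderOf_eq y ▸ by simp)) hy2
      obtain ⟨k, hk⟩ := MulAction.exists_smul_eq K P2 P1
      have e : (Subgroup.zpowers (g⁻¹ * y * g)).map (MulAut.conj (k : G)).toMonoidHom
          = Subgroup.zpowers y := by
        rw [← hP1, ← hP2, ← hk, Sylow.coe_subgroup_smul, Subgroup.pointwise_smul_def, Subgroup.map_map,
          ]
        erw [Subgroup.map_map]
        rfl
      rw [MonoidHom.map_zpowers] at e
      refine ⟨⟨g * (k : G)⁻¹, ?_⟩, ?_, ?_⟩
      · have e' : Subgroup.zpowers y = Subgroup.zpowers (MulAut.conj (k * g⁻¹ : G) y) := by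
          rw [← e]; simp [mul_assoc]
        have hn : (k : G) * g⁻¹ ∈ N := by
          rw [Subgroup.mem_normalizer_iff']
          refine Subgroup.mem_normalizer_iff'.mp ?_
          apply mem_normalizer_of_map
          rw [MonoidHom.map_zpowers]
          exact e'.symm
        simpa using N.inv_mem hn
      · have : ((k : G))⁻¹ • a = a := K.inv_mem k.2 |>.1
        simp [mul_smul, this]
      · have : ((k : G))⁻¹ • b = b := K.inv_mem k.2 |>.2
        simp [mul_smul, this]
  rw [← Finset.offDiag_card, ← Nat.card_eq_finsetCard]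
  have := MulAction.index_stabilizer (G := ↥N) (a, b)
  have hcard : (MulAction.stabilizer ↥N (a, b)).index = Nat.card ↥((Fix α y).offDiag) := by
    rw [this, horb, Set.ncard_coe_finset, Nat.card_eq_finsetCard]
  rw [← hcard]
  exact Subgroup.index_dvd_card _

end Action

section Norm

variable {G : Type*} [Group G] [Finite G]

/-- A prime dividing the normaliser order but not `q - 1` gives a centralising element. -/
theorem exists_commute {y : G} {q r : ℕ} (hq : q.Prime) (hr : r.Prime) (hy : orderOf y = q)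
    (hrq : ¬ r ∣ q - 1)
    (hN : r ∣ Nat.card ↥(Subgroup.normalizer ((Subgroup.zpowers y : Subgroup G) : Set G))) :
    ∃ g : G, orderOf g = r ∧ Commute g y := by
  have : Fact r.Prime := ⟨hr⟩
  have : Fact q.Prime := ⟨hq⟩
  obtain ⟨⟨g, hg⟩, hgo⟩ := exists_prime_orderOf_dvd_card' r hN
  rw [← Subgroup.orderOf_coe] at hgo
  refine ⟨g, hgo, ?_⟩
  have hm := (Subgroup.mem_normalizer_iff.mp hg y).mp (Subgroup.mem_zpowers y)
  obtain ⟨i, hi⟩ := mem_powers_iff_mem_zpowers.mpr hm
  have step : ∀ n : ℕ, g ^ n * y * (g ^ n)⁻¹ = y ^ i ^ n := by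
    intro n
    induction n with
    | zero => simp
    | succ n ih =>
      calc g ^ (n + 1) * y * (g ^ (n + 1))⁻¹ = g * (g ^ n * y * (g ^ n)⁻¹) * g⁻¹ := by
            rw [pow_succ']; group
        _ = g * y ^ i ^ n * g⁻¹ := by rw [ih]
        _ = (y ^ i) ^ i ^ n := by rw [← conj_pow]; exact congrArg (· ^ i ^ n) hi.symm
        _ = y ^ i ^ (n + 1) := by rw [← pow_mul, pow_succ']
  have h1 := step r
  rw [← hgo, pow_orderOf_eq_one] at h1
  simp only [one_mul, inv_one, mul_one] at h1
  have h2 : i ^ r % q = 1 % q := by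
    have := (pow_inj_mod (x := y) (n := i ^ orderOf g) (m := 1)).mp (by rw [pow_one]; exact h1.symm)
    rw [hy, hgo] at this
    exact this
  have h3 : ((i : ZMod q)) ^ r = 1 := by
    have : ((i ^ r : ℕ) : ZMod q) = ((1 : ℕ) : ZMod q) := (ZMod.natCast_eq_natCast_iff' _ _ q).mpr h2
    push_cast at this
    exact this
  have h4 : (i : ZMod q) = 1 := by
    have hne : (i : ZMod q) ≠ 0 := fun h => by
      rw [h, zero_pow hr.ne_zero] at h3; exact zero_ne_one h3
    have e1 : orderOf (i : ZMod q) ∣ r := orderOf_dvd_of_pow_eq_one h3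
    have e2 : orderOf (i : ZMod q) ∣ q - 1 := orderOf_dvd_of_pow_eq_one (ZMod.pow_card_sub_one_eq_one hne)
    rcases (Nat.dvd_prime hr).mp e1 with e | e
    · exact orderOf_eq_one_iff.mp e
    · exact absurd (e ▸ e2) hrq
  have hyi : y ^ i = y := by
    conv_rhs => rw [← pow_one y]
    rw [pow_inj_mod, hy]
    exact (ZMod.natCast_eq_natCast_iff' _ _ q).mp (by simpa using h4)
  have : g * y * g⁻¹ = y := by rw [← hyi]; simpa [hyi] using hi.symm
  exact mul_inv_eq_iff_eq_mul.mp this

end Norm

section Five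

theorem five_invol : ∀ g : Equiv.Perm (Fin 5), Equiv.Perm.sign g = 1 → g * g = 1 →
    g 0 = 0 → g 1 = 1 → g = 1 := by decide +kernel

theorem five_no_six : ∀ g : Equiv.Perm (Fin 5), Equiv.Perm.sign g = 1 →
    g * g * g * (g * g * g) = 1 → g * g = 1 ∨ g * g * g = 1 := by decide +kernel

theorem five_cent : ∀ c : Equiv.Perm (Fin 5), c * c * c * c * c = 1 → c ≠ 1 →
    ∀ t : Equiv.Perm (Fin 5), t * t = 1 → t * c = c * t → t = 1 := by
  decide +kernel

end Five

end CfsgLib.KGroups.MathieuIdent
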