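import Cfsg.Agent.Lib.KGroups.M22Ident
import Cfsg.Agent.Lib.SmallGroups.JordanCycle

/-!
# Doubly transitive groups of order 10200960 on 23 points
-/

set_option autoImplicit false
open scoped Pointwise

namespace CfsgLib.KGroups.MathieuIdent

/-- Doubly transitive of degree 23 and order 10200960. -/
structure Is23 (G α : Type*) [Group G] [MulAction G α] [Fintype α] : Prop where
  card : Fintype.card α = 23
  order : Nat.card G = 10200960
  faithful : FaithfulSMul G α
  two : MulAction.IsMultiplyPretransitive G α 2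

namespace Is23

variable {G α : Type*} [Group G] [Finite G] [MulAction G α] [Fintype α] [DecidableEq α]

theorem fs (S : Is23 G α) : FaithfulSMul G α := S.faithful

theorem trans_pair (S : Is23 G α) {a b c d : α} (hab : a ≠ b) (hcd : c ≠ d) :
    ∃ g : G, g • a = c ∧ g • b = d :=
  (MulAction.is_two_pretransitive_iff (G := G) (α := α)).mp S.two hab hcd

theorem card_K2 (S : Is23 G α) {a b : α} (hab : a ≠ b) : Nat.card ↥(K2 G a b) = 20160 := by
  have e : MulAction.stabilizer G (a, b) = K2 G a b := by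
    ext g; simp [mem_K2, MulAction.mem_stabilizer_iff, Prod.ext_iff]
  have horb : MulAction.orbit G (a, b) = ((Finset.univ : Finset α).offDiag : Set (α × α)) := by
    ext ⟨c, d⟩
    simp only [MulAction.mem_orbit_iff, Finset.mem_coe, Finset.mem_offDiag, Finset.mem_univ, true_and]
    constructor
    · rintro ⟨g, hg⟩
      obtain ⟨rfl, rfl⟩ := Prod.ext_iff.mp hg
      exact fun h => hab (smul_left_cancel g h)
    · intro h
      obtain ⟨g, h1, h2⟩ := S.trans_pair hab h
      exact ⟨g, Prod.ext h1 h2⟩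
  have h := Subgroup.index_mul_card (MulAction.stabilizer G (a, b))
  rw [MulAction.index_stabilizer, horb, Set.ncard_coe_finset, Finset.offDiag_card, Finset.card_univ,
    S.card, S.order, e] at h
  omega

theorem fix_lt (S : Is23 G α) {g : G} {p : ℕ} (hp : p.Prime) (hg : orderOf g = p) :
    (Fix α g).card < 23 ∧ (Fix α g).card % p = 23 % p ∧ g ^ p = 1 := by
  have := S.fs
  have h1 : g ^ p = 1 := hg ▸ pow_orderOf_eq_one g
  refine ⟨S.card ▸ card_fix_lt (α := α) fun h => hp.ne_one (by rw [← hg, h, orderOf_one]), ?_, h1⟩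
  rw [card_fix_mod hp h1, S.card]

theorem order_dvd (S : Is23 G α) {g : G} (h : 2 ≤ (Fix α g).card) : orderOf g ∣ 20160 := by
  obtain ⟨a, ha, b, hb, hab⟩ := Finset.one_lt_card.mp (show 1 < (Fix α g).card by omega)
  rw [← S.card_K2 hab, ← Subgroup.orderOf_mk g (mem_K2.mpr ⟨mem_fix.mp ha, mem_fix.mp hb⟩)]
  exact orderOf_dvd_natCard _

theorem norm_dvd (S : Is23 G α) {y : G} {q : ℕ} (hq : q.Prime) (hy : orderOf y = q)
    (hsq : ¬ q ^ 2 ∣ 20160) (h : 2 ≤ (Fix α y).card) :
    ((Fix α y).card * (Fix α y).card - (Fix α y).card) ∣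
        Nat.card ↥(Subgroup.normalizer ((Subgroup.zpowers y : Subgroup G) : Set G)) ∧
      Nat.card ↥(Subgroup.normalizer ((Subgroup.zpowers y : Subgroup G) : Set G)) ∣ 10200960 := by
  obtain ⟨a, ha, b, hb, hab⟩ := Finset.one_lt_card.mp (show 1 < (Fix α y).card by omega)
  have := S.two
  refine ⟨witt_pairs hq hy hab (mem_fix.mp ha) (mem_fix.mp hb) (by rw [S.card_K2 hab]; exact hsq), ?_⟩
  rw [← S.order]
  exact Subgroup.card_subgroup_dvd_card _

/-- No short cycle of prime length. -/
theorem no_cycle (S : Is23 G α) {g : G} {p : ℕ} (hp : p.Prime) (hg : orderOf g = p) (hp11 : p ≤ 11) :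
    (Fix α g).card + p ≠ 23 := by
  classical
  intro hc
  have := S.fs
  have := S.two
  set φ := MulAction.toPermHom G α
  have hinj : Function.Injective φ := MulAction.toPerm_injective
  have htr : MulAction.IsPretransitive φ.range α := by
    refine ⟨fun u v => ?_⟩
    by_cases huv : u = v
    · exact ⟨1, by rw [one_smul, huv]⟩
    · obtain ⟨k, hk, -⟩ := S.trans_pair huv (Ne.symm huv)
      exact ⟨⟨φ k, k, rfl⟩, hk⟩
  have hprim : MulAction.IsPreprimitive φ.range α := by
    apply MulAction.IsPreprimitive.of_prime_card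
    rw [Nat.card_eq_fintype_card, S.card]; norm_num
  set c := φ g
  have hco : orderOf c = p := (orderOf_injective φ hinj g).trans hg
  have hsupp : c.support.card = p := by
    have e : c.supportᶜ = Fix α g := by
      ext x
      simp [c, φ, mem_fix, Equiv.Perm.mem_support]
    have := Finset.card_compl c.support
    rw [e, S.card] at this
    have hle := c.support.card_le_univ
    rw [S.card] at hle
    omega
  have hcyc : c.IsCycle := Equiv.Perm.isCycle_of_prime_order (hco.symm ▸ hp)
    (by rw [hsupp, hco]; have := hp.pos; omega)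
  have hA := SmallGroups.JordanCycle.alternatingGroup_le hprim hcyc ⟨g, rfl⟩ (hsupp.symm ▸ hp)
    (by rw [hsupp, S.card]; omega)
  have hle := Nat.le_of_dvd Nat.card_pos (Subgroup.card_dvd_of_le hA)
  have : Nontrivial α := Fintype.one_lt_card_iff_nontrivial.mp (by rw [S.card]; norm_num)
  have h2 := two_mul_card_alternatingGroup (α := α)
  rw [Fintype.card_perm, S.card] at h2
  rw [Nat.card_eq_fintype_card (α := alternatingGroup α),
    Nat.card_congr (MonoidHom.ofInjective hinj).toEquiv.symm, S.order] at hle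
  have : (23 : ℕ).factorial > 2 * 10200960 := by decide +kernel
  omega

theorem fix_seven (S : Is23 G α) {g : G} (hg : orderOf g = 7) : (Fix α g).card = 2 := by
  obtain ⟨h1, h2, hg7⟩ := S.fix_lt (by norm_num) hg
  have hne16 : (Fix α g).card ≠ 16 := fun e => S.no_cycle (by norm_num) hg (by norm_num) (by omega)
  by_contra hne
  have e : (Fix α g).card = 9 := by omega
  obtain ⟨hd, hN⟩ := S.norm_dvd (by norm_num) hg (by norm_num) (by omega)
  rw [e] at hd
  set N := Subgroup.normalizer ((Subgroup.zpowers g : Subgroup G) : Set G)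
  have h7 : 7 ∣ Nat.card N := hg ▸ (Nat.card_zpowers g ▸ Subgroup.card_dvd_of_le Subgroup.le_normalizer)
  have h504 : 504 ∣ Nat.card N :=
    (show Nat.Coprime 72 7 by norm_num).mul_dvd_of_dvd_of_dvd hd h7
  -- the index of the normaliser
  have : Fact (Nat.Prime 7) := ⟨by norm_num⟩
  obtain ⟨P, hP⟩ := (IsPGroup.of_card (p := 7) (n := 1) (G := ↥(Subgroup.zpowers g))
    (by rw [Nat.card_zpowers, hg, pow_one])).exists_le_sylow
  have hPc : Nat.card (P : Subgroup G) = 7 := by
    obtain ⟨k, hk⟩ := P.2.exists_card_eq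
    have h1 : 7 ∣ Nat.card (P : Subgroup G) := P.dvd_card_of_dvd_card (by rw [S.order]; norm_num)
    have h2 := Subgroup.card_subgroup_dvd_card (P : Subgroup G)
    rw [S.order, hk] at h2
    rcases k with - | - | k
    · rw [hk] at h1; norm_num at h1
    · simpa using hk
    · have := (pow_dvd_pow 7 (show 2 ≤ k + 1 + 1 by omega)).trans h2
      norm_num at this
  have hPx : (P : Subgroup G) = Subgroup.zpowers g :=
    (Subgroup.eq_of_le_of_card_ge hP (by rw [hPc, Nat.card_zpowers, hg])).symm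
  have hidx : Nat.card (Sylow 7 G) = N.index := by
    rw [P.card_eq_index_normalizer]
    show (Subgroup.normalizer ((P : Subgroup G) : Set G)).index = _
    rw [hPx]
  have hmod := card_sylow_modEq_one 7 G
  rw [hidx, Nat.ModEq] at hmod
  have hmul := Subgroup.index_mul_card N
  rw [S.order] at hmul
  obtain ⟨j, hj⟩ := h504
  rw [hj] at hmul
  have hmul' : N.index * j = 20240 := by
    have : 504 * (N.index * j) = 504 * 20240 := by rw [← hmul.trans (by norm_num : 10200960 = 504 * 20240)]; ring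
    omega
  have hnot : ∀ r : ℕ, r.Prime → (r = 11 ∨ r = 23) → ¬ r ∣ Nat.card N := by
    intro r hr hr2 hrN
    obtain ⟨h, hh, hc⟩ := exists_commute (by norm_num) hr hg (by rcases hr2 with rfl | rfl <;> norm_num) hrN
    obtain ⟨f1, f2, hh'⟩ := S.fix_lt hr hh
    have hf : (Fix α h).card ≤ 1 := by
      by_contra hc'
      have := S.order_dvd (g := h) (by omega)
      rw [hh] at this
      rcases hr2 with rfl | rfl <;> norm_num at this
    obtain ⟨c1, c2, c3, c4, c5, c6⟩ := commute_counts (α := α) hr (by norm_num) (by rcases hr2 with rfl | rfl <;> norm_num)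
      hh' hg7 hc
    rw [e] at c5
    rcases hr2 with rfl | rfl <;> omega
  have h5N : 5 ∣ Nat.card N := by
    have hjd : j ∈ Nat.divisors 20240 := Nat.mem_divisors.mpr ⟨Dvd.intro_left _ hmul', by norm_num⟩
    have h11 : ¬ 11 ∣ j := fun h => hnot 11 (by norm_num) (Or.inl rfl) (hj ▸ h.mul_left _)
    have h23 : ¬ 23 ∣ j := fun h => hnot 23 (by norm_num) (Or.inr rfl) (hj ▸ h.mul_left _)
    have key : ∀ j ∈ Nat.divisors 20240, ¬ 11 ∣ j → ¬ 23 ∣ j → (20240 / j) % 7 = 1 % 7 → 5 ∣ j := by
      decide +kernel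
    have hdiv : 20240 / j = N.index := by
      rw [← hmul', Nat.mul_div_cancel _ (Nat.pos_of_mem_divisors hjd)]
    exact hj ▸ (key j hjd h11 h23 (hdiv ▸ hmod)).mul_left _
  obtain ⟨x, hx, hc⟩ := exists_commute (r := 5) (by norm_num) (by norm_num) hg (by norm_num) h5N
  obtain ⟨f1, f2, hx5⟩ := S.fix_lt (by norm_num) hx
  obtain ⟨c1, c2, c3, c4, c5, c6⟩ := commute_counts (α := α) (by norm_num) (by norm_num) (by norm_num)
    hg7 hx5 hc.symm
  rw [e] at c4 c6
  rw [S.card] at c6
  have := S.no_cycle (g := x) (by norm_num) hx (by norm_num)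
  omega

theorem fix_five (S : Is23 G α) {x : G} (hx : orderOf x = 5) : (Fix α x).card = 3 := by
  obtain ⟨h1, h2, hx5⟩ := S.fix_lt (by norm_num) hx
  obtain ⟨hd, hN⟩ := S.norm_dvd (by norm_num) hx (by norm_num) (by omega)
  have hne18 := S.no_cycle (g := x) (by norm_num) hx (by norm_num)
  by_contra hne
  have hcases : (Fix α x).card = 8 ∨ (Fix α x).card = 13 := by omega
  rcases hcases with e | e <;> rw [e] at hd
  · obtain ⟨g, hg, hc⟩ := exists_commute (r := 7) (by norm_num) (by norm_num) hx (by norm_num)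
      ((show 7 ∣ 8 * 8 - 8 by norm_num).trans hd)
    obtain ⟨c1, c2, c3, c4, c5, c6⟩ := commute_counts (α := α) (by norm_num) (by norm_num) (by norm_num)
      (hg ▸ pow_orderOf_eq_one g) hx5 hc
    rw [S.fix_seven hg] at c4 c6
    rw [e] at c5; rw [S.card] at c6
    omega
  · have := ((show 13 ∣ 13 * 13 - 13 by norm_num).trans hd).trans hN
    norm_num at this

/-- The two-point stabiliser is transitive on the other twenty-one points. -/
theorem card_orb (S : Is23 G α) {a b c : α} (hab : a ≠ b) (hca : c ≠ a) (hcb : c ≠ b) :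
    (orb G a b c).card = 21 := by
  have hK := S.card_K2 hab
  have : Fact (Nat.Prime 7) := ⟨by norm_num⟩
  have : Fact (Nat.Prime 5) := ⟨by norm_num⟩
  obtain ⟨⟨g, hgm⟩, hg⟩ := exists_prime_orderOf_dvd_card' (G := ↥(K2 G a b)) 7 (by rw [hK]; norm_num)
  obtain ⟨⟨x, hxm⟩, hx⟩ := exists_prime_orderOf_dvd_card' (G := ↥(K2 G a b)) 5 (by rw [hK]; norm_num)
  rw [← Subgroup.orderOf_coe] at hg hx
  have hpair : ∀ k : G, k ∈ K2 G a b → ({a, b} : Finset α) ⊆ Fix α k := by
    intro k hk z hz
    rcases Finset.mem_insert.mp hz with rfl | h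
    · exact mem_fix.mpr hk.1
    · exact mem_fix.mpr (Finset.mem_singleton.mp h ▸ hk.2)
  obtain ⟨-, -, hg7⟩ := S.fix_lt (by norm_num) hg
  obtain ⟨-, -, hx5⟩ := S.fix_lt (by norm_num) hx
  have hgf : Fix α g = {a, b} :=
    (Finset.eq_of_subset_of_card_le (hpair g hgm) (by rw [S.fix_seven hg, Finset.card_pair hab])).symm
  have hxf : (Fix α x \ {a, b}).card = 1 := by
    rw [Finset.card_sdiff_of_subset (hpair x hxm), S.fix_five hx, Finset.card_pair hab]
  have key : ∀ d, d ≠ a → d ≠ b → (orb G a b d).card % 7 = 0 ∧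
      (orb G a b d).card % 5 = (orb G a b d ∩ (Fix α x \ {a, b})).card % 5 := by
    intro d hda hdb
    constructor
    · rw [mod_fix (α := α) (by norm_num : Nat.Prime 7) hg7 _ (fun v hv => orb_stable hgm hv)]
      have : orb G a b d ∩ Fix α g = ∅ := by
        ext v
        simp only [Finset.mem_inter, Finset.notMem_empty, iff_false, not_and, hgf, Finset.mem_insert,
          Finset.mem_singleton]
        intro hv
        obtain ⟨h1, h2⟩ := Is22.orb_off hda hdb hv
        tauto
      rw [this]; rfl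
    · rw [mod_fix (α := α) (by norm_num : Nat.Prime 5) hx5 _ (fun v hv => orb_stable hxm hv)]
      congr 2
      ext v
      simp only [Finset.mem_inter, Finset.mem_sdiff, Finset.mem_insert, Finset.mem_singleton]
      constructor
      · rintro ⟨hv, hf⟩
        obtain ⟨h1, h2⟩ := Is22.orb_off hda hdb hv
        exact ⟨hv, hf, by tauto⟩
      · rintro ⟨hv, hf, -⟩
        exact ⟨hv, hf⟩
  obtain ⟨k7, k5⟩ := key c hca hcb
  have hsub : orb G a b c ⊆ Finset.univ \ {a, b} := fun v hv => by
    obtain ⟨h1, h2⟩ := Is22.orb_off hca hcb hv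
    simp [h1, h2]
  have hle := Finset.card_le_card hsub
  rw [Finset.card_sdiff_of_subset (Finset.subset_univ _), Finset.card_univ, S.card, Finset.card_pair hab] at hle
  have hpos : 0 < (orb G a b c).card := Finset.card_pos.mpr ⟨c, Is22.mem_orb_self a b c⟩
  have hint := Finset.card_le_card (Finset.inter_subset_right : orb G a b c ∩ (Fix α x \ {a, b}) ⊆ _)
  rw [hxf] at hint
  interval_cases h : (orb G a b c).card <;> omega

theorem trans_triple (S : Is23 G α) {a b c a' b' c' : α} (h1 : a ≠ b) (h2 : a ≠ c) (h3 : b ≠ c)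
    (h1' : a' ≠ b') (h2' : a' ≠ c') (h3' : b' ≠ c') :
    ∃ g : G, g • a = a' ∧ g • b = b' ∧ g • c = c' := by
  obtain ⟨g, rfl, rfl⟩ := S.trans_pair h1 h1'
  have hc1 : g⁻¹ • c' ≠ a := fun e => h2' (by rw [← e, smul_inv_smul])
  have hc2 : g⁻¹ • c' ≠ b := fun e => h3' (by rw [← e, smul_inv_smul])
  have hall : orb G a b c = Finset.univ \ {a, b} := Finset.eq_of_subset_of_card_le
    (fun v hv => by obtain ⟨e1, e2⟩ := Is22.orb_off h2.symm h3.symm hv; simp [e1, e2])
    (by rw [S.card_orb h1 h2.symm h3.symm, Finset.card_sdiff_of_subset (Finset.subset_univ _),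
      Finset.card_univ, S.card, Finset.card_pair h1])
  obtain ⟨h, ⟨e1, e2⟩, e3⟩ := mem_orb.mp
    (show g⁻¹ • c' ∈ orb G a b c by rw [hall]; simp [hc1, hc2])
  exact ⟨g * h, by rw [mul_smul, e1], by rw [mul_smul, e2], by rw [mul_smul, e3, smul_inv_smul]⟩

/-- The point stabiliser on the other points. -/
theorem is22 (S : Is23 G α) (a : α) :
    ∃ _ : MulAction ↥(MulAction.stabilizer G a) {x : α // x ≠ a}, (∀ (g : ↥(MulAction.stabilizer G a))
      (x : {x : α // x ≠ a}), ((g • x : {x : α // x ≠ a}) : α) = (g : G) • (x : α)) ∧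
      Is22 ↥(MulAction.stabilizer G a) {x : α // x ≠ a} := by
  let _ : MulAction ↥(MulAction.stabilizer G a) {x : α // x ≠ a} :=
    { smul := fun g x => ⟨(g : G) • (x : α), fun e => x.2 (smul_left_cancel (g : G) (e.trans g.2.symm))⟩
      one_smul := fun x => Subtype.ext (one_smul _ (x : α))
      mul_smul := fun g h x => Subtype.ext (mul_smul (g : G) h (x : α)) }
  refine ⟨‹_›, fun _ _ => rfl, ?_, ?_, ⟨fun {g h} e => ?_⟩, ?_⟩
  · rw [Fintype.card_subtype_compl, Fintype.card_subtype_eq, S.card]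
  · have h := Subgroup.index_mul_card (MulAction.stabilizer G a)
    have horb : MulAction.orbit G a = Set.univ := Set.eq_univ_iff_forall.mpr fun v => by
      by_cases hv : v = a
      · exact ⟨1, by simp [hv]⟩
      · obtain ⟨g, hg, -⟩ := S.trans_pair (Ne.symm hv) hv
        exact ⟨g, hg⟩
    rw [MulAction.index_stabilizer, horb, Set.ncard_univ, Nat.card_eq_fintype_card, S.card, S.order] at h
    omega
  · have := S.fs
    refine Subtype.ext (eq_of_smul_eq_smul (α := α) fun x => ?_)
    by_cases hx : x = a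
    · rw [hx]; exact g.2.trans h.2.symm
    · exact congrArg Subtype.val (e ⟨x, hx⟩)
  · refine MulAction.is_two_pretransitive_iff.mpr fun {u v u' v'} huv huv' => ?_
    obtain ⟨g, h1, h2, h3⟩ := S.trans_triple (Ne.symm u.2) (Ne.symm v.2) (fun e => huv (Subtype.ext e))
      (Ne.symm u'.2) (Ne.symm v'.2) (fun e => huv' (Subtype.ext e))
    exact ⟨⟨g, h1⟩, Subtype.ext h2, Subtype.ext h3⟩

/-- A subgroup of order 16 fixing four given points is unique and fixes seven points. -/
theorem exists_heptad (S : Is23 G α) {a b c d : α} (hab : a ≠ b) (hac : a ≠ c) (had : a ≠ d)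
    (hbc : b ≠ c) (hbd : b ≠ d) (hcd : c ≠ d) :
    ∃ P : Subgroup G, Nat.card P = 16 ∧
      (∀ g ∈ P, g • a = a ∧ g • b = b ∧ g • c = c ∧ g • d = d) ∧
      (∀ P' : Subgroup G, Nat.card P' = 16 →
        (∀ g ∈ P', g • a = a ∧ g • b = b ∧ g • c = c ∧ g • d = d) → P' = P) ∧
      ∃ B : Finset α, B.card = 7 ∧ ∀ z, z ∈ B ↔ ∀ g ∈ P, g • z = z := by
  obtain ⟨_, hsmul, T⟩ := S.is22 a
  obtain ⟨P, hP, hfix, huniq, B, hB, hBP⟩ := T.exists_hexad
    (a := (⟨b, hab.symm⟩ : {x : α // x ≠ a})) (b := ⟨c, hac.symm⟩) (c := ⟨d, had.symm⟩)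
    (fun e => hbc (congrArg Subtype.val e)) (fun e => hbd (congrArg Subtype.val e))
    (fun e => hcd (congrArg Subtype.val e))
  have hval : ∀ (g : ↥(MulAction.stabilizer G a)) (x : {x : α // x ≠ a}), g • x = x ↔ (g : G) • (x : α) = x :=
    fun g x => by rw [Subtype.ext_iff, hsmul]
  refine ⟨P.map (MulAction.stabilizer G a).subtype, by rw [Subgroup.card_subtype, hP], ?_, ?_, ?_⟩
  · rintro _ ⟨g, hg, rfl⟩
    obtain ⟨h1, h2, h3⟩ := hfix g hg
    exact ⟨g.2, (hval _ _).mp h1, (hval _ _).mp h2, (hval _ _).mp h3⟩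
  · intro P' hP' hf
    have hle : P' ≤ MulAction.stabilizer G a := fun g hg => (hf g hg).1
    have := huniq (P'.subgroupOf (MulAction.stabilizer G a))
      (by rw [Nat.card_congr (Subgroup.subgroupOfEquivOfLe hle).toEquiv, hP']) fun g hg => by
        obtain ⟨-, h1, h2, h3⟩ := hf g (Subgroup.mem_subgroupOf.mp hg)
        exact ⟨(hval _ _).mpr h1, (hval _ _).mpr h2, (hval _ _).mpr h3⟩
    rw [← this, Subgroup.map_subgroupOf_eq_of_le hle]
  · refine ⟨insert a (B.map (Function.Embedding.subtype _)), ?_, fun z => ?_⟩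
    · rw [Finset.card_insert_of_notMem (by simp), Finset.card_map, hB]
    · simp only [Finset.mem_insert, Finset.mem_map, Function.Embedding.coe_subtype]
      constructor
      · rintro (rfl | ⟨w, hw, rfl⟩) _ ⟨g, hg, rfl⟩
        · exact g.2
        · exact (hval _ _).mp ((hBP w).mp hw g hg)
      · intro h
        by_cases hz : z = a
        · exact Or.inl hz
        · exact Or.inr ⟨⟨z, hz⟩, (hBP _).mpr fun g hg => (hval _ _).mpr (h _ ⟨g, hg, rfl⟩), rfl⟩

end Is23

end CfsgLib.KGroups.MathieuIdent
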