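import Cfsg.Agent.Lib.KGroups.MathieuIdent.Fix22

/-!
# The two-point stabiliser in degree 22: Sylow five normaliser and a fixed point bound
-/

set_option autoImplicit false
open scoped Pointwise

namespace CfsgLib.KGroups.MathieuIdent

namespace Is22

variable {G α : Type*} [Group G] [Finite G] [MulAction G α] [Fintype α] [DecidableEq α]

theorem five_or (S : Is22 G α) {a b : α} (hab : a ≠ b) (x : ↥(K2 G a b)) (hx : orderOf x = 5) :
    (Nat.card ↥(Subgroup.normalizer ((Subgroup.zpowers x : Subgroup ↥(K2 G a b)) : Set ↥(K2 G a b))) = 10) ∨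
    (Nat.card ↥(Subgroup.normalizer ((Subgroup.zpowers x : Subgroup ↥(K2 G a b)) : Set ↥(K2 G a b))) = 160 ∧
      Nat.card (Sylow 5 ↥(K2 G a b)) = 6) := by
  have : Fact (Nat.Prime 5) := ⟨by norm_num⟩
  have hK := S.card_K2 hab
  obtain ⟨P, hP⟩ := (IsPGroup.of_card (p := 5) (n := 1) (G := ↥(Subgroup.zpowers x))
    (by rw [Nat.card_zpowers, hx, pow_one])).exists_le_sylow
  have hPc : Nat.card (P : Subgroup ↥(K2 G a b)) = 5 := by
    obtain ⟨k, hk⟩ := P.2.exists_card_eq
    have h1 : 5 ∣ Nat.card (P : Subgroup ↥(K2 G a b)) := P.dvd_card_of_dvd_card (by rw [hK]; norm_num)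
    have h2 := Subgroup.card_subgroup_dvd_card (P : Subgroup ↥(K2 G a b))
    rw [hK, hk] at h2
    rcases k with - | - | k
    · rw [hk] at h1; norm_num at h1
    · simpa using hk
    · have := (pow_dvd_pow 5 (show 2 ≤ k + 1 + 1 by omega)).trans h2
      norm_num at this
  have hPx : (P : Subgroup ↥(K2 G a b)) = Subgroup.zpowers x :=
    (Subgroup.eq_of_le_of_card_ge hP (by rw [hPc, Nat.card_zpowers, hx])).symm
  set N := Subgroup.normalizer ((Subgroup.zpowers x : Subgroup ↥(K2 G a b)) : Set ↥(K2 G a b))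
  have hidx : Nat.card (Sylow 5 ↥(K2 G a b)) = N.index := by
    rw [P.card_eq_index_normalizer]
    show (Subgroup.normalizer ((P : Subgroup ↥(K2 G a b)) : Set ↥(K2 G a b))).index = _
    rw [hPx]
  have hmod := card_sylow_modEq_one 5 ↥(K2 G a b)
  rw [hidx, Nat.ModEq] at hmod
  have h5 : 5 ∣ Nat.card N := hx ▸ (Nat.card_zpowers x ▸ Subgroup.card_dvd_of_le Subgroup.le_normalizer)
  have h3 : ¬ 3 ∣ Nat.card N := by
    intro h
    obtain ⟨y, hy, hc⟩ := exists_commute (by norm_num) (by norm_num) hx (by norm_num) h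
    refine S.no_fifteen (x := (x : G)) (y := (y : G)) (by rw [Subgroup.orderOf_coe, hx])
      (by rw [Subgroup.orderOf_coe, hy]) ?_ (congrArg Subtype.val hc.eq).symm
    have hsub : ({a, b} : Finset α) ⊆ Fix α (y : G) := by
      intro z hz
      rcases Finset.mem_insert.mp hz with rfl | h
      · exact mem_fix.mpr y.2.1
      · exact mem_fix.mpr (Finset.mem_singleton.mp h ▸ y.2.2)
    have := Finset.card_le_card hsub
    rwa [Finset.card_pair hab] at this
  have hmul := Subgroup.index_mul_card N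
  rw [hK] at hmul
  obtain ⟨m, hm⟩ := h5
  rw [hm] at hmul h3 ⊢
  have hd : N.index ∣ 192 := ⟨m, (Nat.eq_of_mul_eq_mul_left (show 0 < 5 by norm_num) (by linarith)).symm⟩
  have hle := Nat.le_of_dvd (by norm_num) hd
  have hcases : N.index = 1 ∨ N.index = 6 ∨ N.index = 16 ∨ N.index = 96 := by
    have hmem : N.index ∈ Nat.divisors 192 := Nat.mem_divisors.mpr ⟨hd, by norm_num⟩
    revert hmod
    generalize N.index = i at hmem
    intro hmod
    have : ∀ j ∈ Nat.divisors 192, j % 5 = 1 % 5 → j = 1 ∨ j = 6 ∨ j = 16 ∨ j = 96 := by decide +kernel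
    exact this i hmem hmod
  rcases hcases with e | e | e | e <;> rw [e] at hmul
  · omega
  · exact Or.inr ⟨by omega, hidx.trans e⟩
  · omega
  · exact Or.inl (by omega)

theorem norm_five_K2 (S : Is22 G α) {a b : α} (hab : a ≠ b) (x : ↥(K2 G a b)) (hx : orderOf x = 5) :
    Nat.card ↥(Subgroup.normalizer ((Subgroup.zpowers x : Subgroup ↥(K2 G a b)) : Set ↥(K2 G a b))) = 10 := by
  classical
  refine (S.five_or hab x hx).resolve_right ?_
  rintro ⟨hN, hn⟩
  have := S.fs
  have hK := S.card_K2 hab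
  set φ := MulAction.toPermHom ↥(K2 G a b) (Sylow 5 ↥(K2 G a b))
  set W := φ.ker
  set r := Nat.card φ.range
  have hrw : r * Nat.card W = 960 := by
    rw [← hK, ← Subgroup.index_mul_card W, show W.index = r from Subgroup.index_ker φ]
  have : Fact (Nat.Prime 5) := ⟨by norm_num⟩
  have hr720 : r ∣ 720 := by
    have h := Subgroup.card_subgroup_dvd_card φ.range
    rw [Nat.card_perm, hn] at h
    exact h
  obtain ⟨P⟩ := (inferInstance : Nonempty (Sylow 5 ↥(K2 G a b)))
  have hr6 : 6 ∣ r := by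
    have h : (MulAction.orbit φ.range P).ncard = 6 := by
      rw [show MulAction.orbit φ.range P = Set.univ from Set.eq_univ_iff_forall.mpr fun Q => by
        obtain ⟨g, hg⟩ := MulAction.exists_smul_eq ↥(K2 G a b) P Q
        exact ⟨⟨φ g, g, rfl⟩, hg⟩, Set.ncard_univ, hn]
    rw [← h, ← MulAction.index_stabilizer]
    exact Subgroup.index_dvd_card _
  have hsq5 : ¬ 5 ^ 2 ∣ Nat.card ↥(K2 G a b) := by rw [hK]; norm_num
  have h5r : 5 ∣ r := by
    by_contra h
    have hall : ∀ g : ↥(K2 G a b), orderOf g = 5 → g ∈ W := fun g hg =>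
      CfsgLib.KGroups.MathieuIdent.Is960.mem_of_normal W (by norm_num) (by rw [show W.index = r from Subgroup.index_ker φ]; exact h) g hg
    have h1 := index_dvd_normalizer (by norm_num) hx hsq5 W hall
    rw [hN, show W.index = r from Subgroup.index_ker φ] at h1
    have := ((show 3 ∣ 6 by norm_num).trans hr6).trans h1
    norm_num at this
  have h30 : 30 ∣ r := (show Nat.Coprime 6 5 by norm_num).mul_dvd_of_dvd_of_dvd hr6 h5r
  have hW4 : 4 ≤ Nat.card W ∧ ¬ 5 ∣ Nat.card W := by
    have h240 : r ∣ 240 := by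
      have := Nat.dvd_gcd (Dvd.intro _ hrw : r ∣ 960) hr720
      exact this
    have hle := Nat.le_of_dvd (by norm_num) h240
    refine ⟨by nlinarith, fun h => ?_⟩
    have := Nat.mul_dvd_mul h5r h
    rw [hrw] at this
    norm_num at this
  -- `W` centralises every element of order five
  have hWc : ∀ t ∈ W, ∀ g : ↥(K2 G a b), orderOf g = 5 → Commute t g := by
    intro t ht g hg
    obtain ⟨Q, hQ⟩ := (IsPGroup.of_card (p := 5) (n := 1) (G := ↥(Subgroup.zpowers g))
      (by rw [Nat.card_zpowers, hg, pow_one])).exists_le_sylow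
    have hfix : t • Q = Q := Equiv.ext_iff.mp ht Q
    rw [Sylow.smul_eq_iff_mem_normalizer] at hfix
    have h1 : t * g * t⁻¹ ∈ (Q : Subgroup ↥(K2 G a b)) :=
      (Subgroup.mem_normalizer_iff.mp hfix g).mp (hQ (Subgroup.mem_zpowers g))
    have h2 : t * g * t⁻¹ * g⁻¹ ∈ (Q : Subgroup ↥(K2 G a b)) := mul_mem h1 (inv_mem (hQ (Subgroup.mem_zpowers g)))
    have h3 : t * g * t⁻¹ * g⁻¹ ∈ W := by
      rw [mul_assoc t g, mul_assoc t]
      exact mul_mem ht (((inferInstance : W.Normal).conj_mem _ (inv_mem ht) g))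
    obtain ⟨k, hk⟩ := Q.2 ⟨_, h2⟩
    have h4 : orderOf (t * g * t⁻¹ * g⁻¹) ∣ 5 ^ k :=
      orderOf_dvd_of_pow_eq_one (congrArg Subtype.val hk)
    have h5 : orderOf (t * g * t⁻¹ * g⁻¹) ∣ Nat.card W := by
      rw [← Subgroup.orderOf_mk _ h3]; exact orderOf_dvd_natCard _
    have h6 : orderOf (t * g * t⁻¹ * g⁻¹) = 1 := by
      obtain ⟨j, -, hj⟩ := (Nat.dvd_prime_pow (by norm_num)).mp h4
      rcases j with - | j
      · simpa using hj
      · exact absurd ((Dvd.intro_left _ (pow_succ 5 j ▸ hj).symm).trans h5) hW4.2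
    have h7 : t * g * t⁻¹ * g⁻¹ = 1 := orderOf_eq_one_iff.mp h6
    exact mul_inv_eq_iff_eq_mul.mp (mul_inv_eq_one.mp h7)
  set C := Subgroup.centralizer (W : Set ↥(K2 G a b)) with hC
  have : C.Normal := inferInstance
  have h5C : ∀ g : ↥(K2 G a b), orderOf g = 5 → g ∈ C := fun g hg =>
    Subgroup.mem_centralizer_iff.mpr fun t ht => hWc t ht g hg
  have hC3 : ∀ g : ↥(K2 G a b), orderOf g = 3 → g ∈ C := by
    refine fun g hg => CfsgLib.KGroups.MathieuIdent.Is960.mem_of_normal C (by norm_num) (fun h => ?_) g hg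
    have h1 := index_dvd_normalizer (by norm_num) hx hsq5 C h5C
    rw [hN] at h1
    have := h.trans h1
    norm_num at this
  obtain ⟨-, ⟨y, hy, hym⟩⟩ := S.exists_el hab
  have hyK : (⟨y, hym⟩ : ↥(K2 G a b)) ∈ C := hC3 _ (by rw [← Subgroup.orderOf_coe]; exact hy)
  have hxC : x ∈ C := h5C x hx
  set F := Fix α y \ {a, b}
  have hF : F.card = 2 := S.fix_outside hab hy hym
  have hFm : ∀ d, d ∈ F ↔ y • d = d ∧ d ≠ a ∧ d ≠ b := fun d => by simp [F, mem_fix]
  -- the orbits of `C`
  set O : α → Finset α := fun d => Finset.univ.filter fun v => ∃ g : ↥(K2 G a b), g ∈ C ∧ (g : G) • d = v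
  have hO : ∀ d v, v ∈ O d ↔ ∃ g : ↥(K2 G a b), g ∈ C ∧ (g : G) • d = v := fun d v => by simp [O]
  have hOs : ∀ (g : ↥(K2 G a b)) (d v : α), g ∈ C → v ∈ O d → (g : G) • v ∈ O d := by
    intro g d v hg hv
    obtain ⟨k, hk, rfl⟩ := (hO d v).mp hv
    exact (hO d _).mpr ⟨g * k, mul_mem hg hk, by rw [Subgroup.coe_mul, mul_smul]⟩
  have hOK : ∀ (k : ↥(K2 G a b)) (d : α), O ((k : G) • d) = (O d).image ((k : G) • ·) := by
    intro k d
    ext v
    simp only [hO, Finset.mem_image]
    constructor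
    · rintro ⟨g, hg, rfl⟩
      refine ⟨((k⁻¹ * g * k⁻¹⁻¹ : ↥(K2 G a b)) : G) • d, ⟨_, (inferInstance : C.Normal).conj_mem g hg k⁻¹, rfl⟩, ?_⟩
      simp [mul_smul]
    · rintro ⟨w, ⟨g, hg, rfl⟩, rfl⟩
      exact ⟨k * g * k⁻¹, (inferInstance : C.Normal).conj_mem g hg k, by simp [mul_smul]⟩
  obtain ⟨c, hc⟩ := Finset.card_pos.mp (show 0 < F.card by omega)
  obtain ⟨hcy, hca, hcb⟩ := (hFm c).mp hc
  obtain ⟨c', hc'⟩ := Finset.card_pos.mp (show 0 < (F.erase c).card by
    rw [Finset.card_erase_of_mem hc]; omega)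
  obtain ⟨hc'c, hc'F⟩ := Finset.mem_erase.mp hc'
  obtain ⟨hc'y, hc'a, hc'b⟩ := (hFm c').mp hc'F
  have hFeq : ∀ d ∈ F, d = c ∨ d = c' := by
    intro d hd
    by_contra h
    push Not at h
    have h1 : ({c, c', d} : Finset α) ⊆ F := by
      intro z hz
      simp only [Finset.mem_insert, Finset.mem_singleton] at hz
      rcases hz with rfl | rfl | rfl
      exacts [hc, hc'F, hd]
    have h2 := Finset.card_le_card h1
    rw [Finset.card_insert_of_notMem (by simp [Ne.symm hc'c, Ne.symm h.1]),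
      Finset.card_pair (Ne.symm h.2)] at h2
    omega
  have htrans : ∀ d, d ≠ a → d ≠ b → ∃ k : ↥(K2 G a b), (k : G) • c = d := by
    intro d hda hdb
    obtain ⟨g, h1, h2, h3⟩ := S.trans_triple hab (Ne.symm hca) (Ne.symm hcb) hab (Ne.symm hda) (Ne.symm hdb)
    exact ⟨⟨g, h1, h2⟩, h3⟩
  have hOcard : ∀ d, d ≠ a → d ≠ b → (O d).card = (O c).card := by
    intro d hda hdb
    obtain ⟨k, rfl⟩ := htrans d hda hdb
    rw [hOK, Finset.card_image_of_injective _ (MulAction.injective _)]
  have hOsub : ∀ d, d ≠ a → d ≠ b → O d ⊆ Finset.univ \ {a, b} := by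
    intro d hda hdb v hv
    obtain ⟨g, -, rfl⟩ := (hO d v).mp hv
    simp only [Finset.mem_sdiff, Finset.mem_univ, true_and, Finset.mem_insert, Finset.mem_singleton, not_or]
    exact ⟨fun e => hda (smul_left_cancel (g : G) (e.trans g.2.1.symm)),
      fun e => hdb (smul_left_cancel (g : G) (e.trans g.2.2.symm))⟩
  have h20 : (Finset.univ \ {a, b} : Finset α).card = 20 := by
    rw [Finset.card_sdiff_of_subset (Finset.subset_univ _), Finset.card_univ, S.card, Finset.card_pair hab]
  have hself : ∀ d, d ∈ O d := fun d => (hO d d).mpr ⟨1, one_mem C, one_smul G d⟩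
  obtain ⟨-, -, hx5⟩ := S.fix_lt (g := (x : G)) (p := 5) (by norm_num) (by rw [Subgroup.orderOf_coe, hx])
  obtain ⟨-, -, hy3⟩ := S.fix_lt (by norm_num) hy
  have hxfix := S.fix_eq_five hab (x := (x : G)) (by rw [Subgroup.orderOf_coe, hx]) x.2
  have hmod5 : ∀ d, d ≠ a → d ≠ b → (O d).card % 5 = 0 := by
    intro d hda hdb
    rw [mod_fix (α := α) (by norm_num : Nat.Prime 5) hx5 _ (fun v hv => hOs x d v hxC hv)]
    have : O d ∩ Fix α (x : G) = ∅ := by
      ext v
      simp only [Finset.mem_inter, Finset.notMem_empty, iff_false, not_and, hxfix]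
      intro hv
      exact (Finset.mem_sdiff.mp (hOsub d hda hdb hv)).2
    rw [this]; rfl
  have hmod3 : ∀ d, d ≠ a → d ≠ b → (O d).card % 3 = (O d ∩ F).card % 3 := by
    intro d hda hdb
    rw [mod_fix (α := α) (by norm_num : Nat.Prime 3) hy3 _ (fun v hv => hOs ⟨y, hym⟩ d v hyK hv)]
    congr 2
    ext v
    simp only [Finset.mem_inter, F, Finset.mem_sdiff]
    exact ⟨fun ⟨h1, h2⟩ => ⟨h1, h2, (Finset.mem_sdiff.mp (hOsub d hda hdb h1)).2⟩,
      fun ⟨h1, h2, _⟩ => ⟨h1, h2⟩⟩
  have hcover : ∀ d, d ≠ a → d ≠ b → d ∈ O c ∨ d ∈ O c' := by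
    intro d hda hdb
    have hle := Finset.card_le_card (hOsub c hca hcb)
    rw [h20] at hle
    have hp : 0 < (O c).card := Finset.card_pos.mpr ⟨c, hself c⟩
    have h5 := hmod5 c hca hcb
    have h3 := hmod3 c hca hcb
    by_cases hin : c' ∈ O c
    · have e : O c ∩ F = F := Finset.inter_eq_right.mpr fun z hz => by
        rcases hFeq z hz with rfl | rfl
        exacts [hself _, hin]
      rw [e, hF] at h3
      have h20c : (O c).card = 20 := by
        by_contra hne
        obtain ⟨v, hv1, hv2⟩ := Finset.exists_mem_notMem_of_card_lt_card (s := O c)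
          (t := (Finset.univ \ {a, b} : Finset α)) (by omega)
        obtain ⟨hva, hvb⟩ : v ≠ a ∧ v ≠ b := by simpa using hv1
        have h3v := hmod3 v hva hvb
        have hempty : O v ∩ F = ∅ := by
          refine Finset.eq_empty_of_forall_notMem fun z hz => hv2 ?_
          obtain ⟨hz1, hz2⟩ := Finset.mem_inter.mp hz
          obtain ⟨g, hg, e⟩ := (hO v z).mp hz1
          have hzc : z ∈ O c := by rcases hFeq z hz2 with rfl | rfl <;> [exact hself _; exact hin]
          have := hOs g⁻¹ c z (inv_mem hg) hzc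
          rwa [← e, Subgroup.coe_inv, inv_smul_smul] at this
        rw [hempty, Finset.card_empty, hOcard v hva hvb] at h3v
        omega
      exact Or.inl (Finset.eq_of_subset_of_card_le (hOsub c hca hcb) (by omega) ▸ (by simp [hda, hdb]))
    · have e : O c ∩ F = {c} := by
        ext z
        simp only [Finset.mem_inter, Finset.mem_singleton]
        exact ⟨fun ⟨h1, h2⟩ => (hFeq z h2).resolve_right (fun e => hin (e ▸ h1)),
          fun e => by rw [e]; exact ⟨hself c, hc⟩⟩
      rw [e, Finset.card_singleton] at h3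
      have hdisj : Disjoint (O c) (O c') := by
        rw [Finset.disjoint_left]
        intro z hz hz'
        obtain ⟨g, hg, e⟩ := (hO c' z).mp hz'
        have := hOs g⁻¹ c z (inv_mem hg) hz
        rw [← e, Subgroup.coe_inv, inv_smul_smul] at this
        exact hin this
      have hsub : O c ∪ O c' ⊆ Finset.univ \ {a, b} :=
        Finset.union_subset (hOsub c hca hcb) (hOsub c' hc'a hc'b)
      have hcard2 : (O c ∪ O c').card = 2 * (O c).card := by
        rw [Finset.card_union_of_disjoint hdisj, hOcard c' hc'a hc'b]; omega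
      have hle2 := Finset.card_le_card hsub
      rw [h20, hcard2] at hle2
      have hall := Finset.eq_of_subset_of_card_le hsub (by rw [hcard2, h20]; omega)
      exact Finset.mem_union.mp (hall ▸ (by simp [hda, hdb]))
  -- `W` maps `c` into `F`, and the stabiliser of `c` in `W` is trivial
  have hWF : ∀ t : ↥W, ((t : ↥(K2 G a b)) : G) • c ∈ F := by
    intro t
    have hcomm : (t : ↥(K2 G a b)) * ⟨y, hym⟩ = ⟨y, hym⟩ * (t : ↥(K2 G a b)) := Subgroup.mem_centralizer_iff.mp hyK t t.2
    refine (hFm _).mpr ⟨?_, fun e => hca (smul_left_cancel _ (e.trans (t : ↥(K2 G a b)).2.1.symm)),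
      fun e => hcb (smul_left_cancel _ (e.trans (t : ↥(K2 G a b)).2.2.symm))⟩
    have h := congrArg Subtype.val hcomm
    simp only [Subgroup.coe_mul] at h
    rw [← mul_smul, ← h, mul_smul, hcy]
  have hcC : ∀ t : ↥W, ∀ d, ((t : ↥(K2 G a b)) : G) • d = d → ∀ v ∈ O d, ((t : ↥(K2 G a b)) : G) • v = v := by
    intro t d htd v hv
    obtain ⟨g, hg, rfl⟩ := (hO d v).mp hv
    have h := congrArg Subtype.val (Subgroup.mem_centralizer_iff.mp hg t t.2)
    simp only [Subgroup.coe_mul] at h
    rw [← mul_smul, h, mul_smul, htd]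
  set f : ↥W → ↥F := fun t => ⟨((t : ↥(K2 G a b)) : G) • c, hWF t⟩
  by_cases hsur : ∀ t : ↥W, f t = ⟨c, hc⟩
  · -- then `W` is trivial
    have hone : ∀ t : ↥W, t = 1 := by
      intro t
      apply Subtype.ext; apply Subtype.ext
      refine eq_of_smul_eq_smul (α := α) fun d => ?_
      show ((t : ↥(K2 G a b)) : G) • d = (1 : G) • d
      rw [one_smul]
      by_cases hda : d = a
      · rw [hda]; exact (t : ↥(K2 G a b)).2.1
      by_cases hdb : d = b
      · rw [hdb]; exact (t : ↥(K2 G a b)).2.2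
      obtain ⟨k, rfl⟩ := htrans d hda hdb
      have ht' : k⁻¹ * (t : ↥(K2 G a b)) * k⁻¹⁻¹ ∈ W := (inferInstance : W.Normal).conj_mem _ t.2 k⁻¹
      have h := congrArg Subtype.val (hsur ⟨_, ht'⟩)
      simp only [f, Subgroup.coe_mul, Subgroup.coe_inv, inv_inv, mul_smul, inv_smul_eq_iff] at h
      exact h
    have : Subsingleton ↥W := ⟨fun u v => (hone u).trans (hone v).symm⟩
    have := (Finite.card_le_one_iff_subsingleton).mpr this
    omega
  · push Not at hsur
    obtain ⟨t0, ht0⟩ := hsur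
    have ht0c : ((t0 : ↥(K2 G a b)) : G) • c = c' :=
      (hFeq _ (hWF t0)).resolve_left fun e => ht0 (Subtype.ext e)
    have hinj : Function.Injective f := by
      intro u v e
      have hu : (((v⁻¹ * u : ↥W) : ↥(K2 G a b)) : G) • c = c := by
        have := congrArg Subtype.val e
        simp only [f] at this
        simp [mul_smul, this]
      generalize hz : (v⁻¹ * u : ↥W) = z at hu
      have hc'fix : ((z : ↥(K2 G a b)) : G) • c' = c' := by
        have hzF : ((z : ↥(K2 G a b)) : G) • c' ∈ F := by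
          refine (hFm _).mpr ⟨?_, fun e => hc'a (smul_left_cancel _ (e.trans (z : ↥(K2 G a b)).2.1.symm)),
            fun e => hc'b (smul_left_cancel _ (e.trans (z : ↥(K2 G a b)).2.2.symm))⟩
          have hcomm := congrArg Subtype.val (Subgroup.mem_centralizer_iff.mp hyK z z.2)
          simp only [Subgroup.coe_mul] at hcomm
          rw [← mul_smul, ← hcomm, mul_smul, hc'y]
        exact (hFeq _ hzF).resolve_left fun e => hc'c (smul_left_cancel _ (e.trans hu.symm))
      have hone : z = 1 := by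
        apply Subtype.ext; apply Subtype.ext
        refine eq_of_smul_eq_smul (α := α) fun d => ?_
        show _ = (1 : G) • d
        rw [one_smul]
        by_cases hda : d = a
        · rw [hda]; exact (z : ↥(K2 G a b)).2.1
        by_cases hdb : d = b
        · rw [hdb]; exact (z : ↥(K2 G a b)).2.2
        rcases hcover d hda hdb with hd | hd
        · exact hcC _ c hu d hd
        · exact hcC _ c' hc'fix d hd
      exact (inv_mul_eq_one.mp (hz.trans hone)).symm
    have := Nat.card_le_card_of_injective f hinj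
    rw [Nat.card_eq_finsetCard, hF] at this
    omega

theorem is960 (S : Is22 G α) {a b : α} (hab : a ≠ b) : Is960 ↥(K2 G a b) :=
  ⟨S.card_K2 hab, S.norm_five_K2 hab, S.norm_three_K2 hab⟩

theorem no_invol (S : Is22 G α) {w x : G} (hw : w * w = 1) (hx : orderOf x = 5) (hc : Commute w x)
    (hfix : ∀ z ∈ Fix α x, w • z = z) : w = 1 := by
  obtain ⟨a, b, hab, hm⟩ := pair_of_two_le (α := α) (g := x) (S.fix_five hx).ge
  have ha : a ∈ Fix α x := mem_fix.mpr hm.1
  have hb : b ∈ Fix α x := mem_fix.mpr hm.2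
  have := (S.is960 hab).no_invol_cent (x := ⟨x, hm⟩) (t := ⟨w, hfix a ha, hfix b hb⟩)
    (by rw [← Subgroup.orderOf_coe]; exact hx) (Subtype.ext hw) (Subtype.ext hc.eq)
  exact congrArg Subtype.val this

/-- Fixed triples counted over the group. -/
theorem sum_triples (S : Is22 G α) [Fintype G] :
    ∑ g : G, ((Fix α g).card * (Fix α g).card - (Fix α g).card) * ((Fix α g).card - 2) = 443520 := by
  classical
  set U := (Finset.univ : Finset α).offDiag.sigma fun p => (Finset.univ : Finset α) \ {p.1, p.2}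
  have hg : ∀ g : G, ((Fix α g).card * (Fix α g).card - (Fix α g).card) * ((Fix α g).card - 2)
      = ∑ q ∈ U, if g • q.1.1 = q.1.1 ∧ g • q.1.2 = q.1.2 ∧ g • q.2 = q.2 then 1 else 0 := by
    intro g
    rw [← Finset.card_filter]
    have e : U.filter (fun q => g • q.1.1 = q.1.1 ∧ g • q.1.2 = q.1.2 ∧ g • q.2 = q.2)
        = (Fix α g).offDiag.sigma fun p => Fix α g \ {p.1, p.2} := by
      ext ⟨⟨p, q⟩, r⟩
      simp only [U, Finset.mem_filter, Finset.mem_sigma, Finset.mem_offDiag, Finset.mem_univ,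
        Finset.mem_sdiff, mem_fix, true_and]
      tauto
    rw [e, Finset.card_sigma, Finset.sum_congr rfl (g := fun _ => (Fix α g).card - 2) fun p hp => ?_,
      Finset.sum_const, Finset.offDiag_card, smul_eq_mul]
    obtain ⟨h1, h2, h3⟩ := Finset.mem_offDiag.mp hp
    rw [Finset.card_sdiff_of_subset (Finset.insert_subset h1 (Finset.singleton_subset_iff.mpr h2)),
      Finset.card_pair h3]
  simp only [hg]
  rw [Finset.sum_comm, Finset.sum_congr rfl (g := fun _ => 48) fun q hq => ?_, Finset.sum_const,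
    Finset.card_sigma, Finset.sum_congr rfl (g := fun _ => 20) fun p hp => ?_, Finset.sum_const,
    Finset.offDiag_card, Finset.card_univ, S.card, smul_eq_mul, smul_eq_mul]
  · rw [Finset.card_sdiff_of_subset (Finset.subset_univ _), Finset.card_univ, S.card,
      Finset.card_pair (Finset.mem_offDiag.mp hp).2.2]
  · obtain ⟨⟨p, q⟩, r⟩ := q
    simp only [U, Finset.mem_sigma, Finset.mem_offDiag, Finset.mem_univ, true_and, Finset.mem_sdiff,
      Finset.mem_insert, Finset.mem_singleton, not_or] at hq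
    rw [← Finset.card_filter, ← S.card_L hq.1 (Ne.symm hq.2.1) (Ne.symm hq.2.2),
      ← Nat.card_eq_finsetCard]
    refine Nat.card_congr (Equiv.subtypeEquivRight fun g => ?_)
    simp [mem_K2, and_assoc]

theorem not_dvd_cent (S : Is22 G α) {w : G} (hw : w * w = 1) (hw1 : w ≠ 1) (h12 : 12 ≤ (Fix α w).card) :
    ¬ 11 ∣ Nat.card ↥(Subgroup.centralizer ({w} : Set G)) ∧
    ¬ 7 ∣ Nat.card ↥(Subgroup.centralizer ({w} : Set G)) ∧
    ((Fix α w).card = 20 ∨ ¬ 5 ∣ Nat.card ↥(Subgroup.centralizer ({w} : Set G))) := by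
  have hwo : orderOf w = 2 := orderOf_eq_prime (by rw [pow_two]; exact hw) hw1
  obtain ⟨hlt, hev, hw2⟩ := S.fix_lt (by norm_num) hwo
  have hget : ∀ p : ℕ, p.Prime → p ∣ Nat.card ↥(Subgroup.centralizer ({w} : Set G)) →
      ∃ g : G, orderOf g = p ∧ Commute g w := by
    intro p hp hd
    have : Fact p.Prime := ⟨hp⟩
    obtain ⟨g, hg⟩ := exists_prime_orderOf_dvd_card' p hd
    exact ⟨g, by rw [Subgroup.orderOf_coe, hg], Subgroup.mem_centralizer_singleton_iff.mp g.2⟩
  refine ⟨fun h => ?_, fun h => ?_, ?_⟩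
  · obtain ⟨g, hg, hc⟩ := hget 11 (by norm_num) h
    obtain ⟨c1, c2, c3, c4, c5, c6⟩ := commute_counts (α := α) (by norm_num) (by norm_num) (by norm_num)
      (hg ▸ pow_orderOf_eq_one g) hw2 hc
    rw [S.fix_eleven hg] at c4 c6
    rw [S.card] at c6
    omega
  · obtain ⟨g, hg, hc⟩ := hget 7 (by norm_num) h
    obtain ⟨c1, c2, c3, c4, c5, c6⟩ := commute_counts (α := α) (by norm_num) (by norm_num) (by norm_num)
      (hg ▸ pow_orderOf_eq_one g) hw2 hc
    rw [S.fix_seven hg] at c4 c6
    rw [S.card] at c6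
    omega
  · by_cases h20 : (Fix α w).card = 20
    · exact Or.inl h20
    refine Or.inr fun h => ?_
    obtain ⟨g, hg, hc⟩ := hget 5 (by norm_num) h
    obtain ⟨c1, c2, c3, c4, c5, c6⟩ := commute_counts (α := α) (by norm_num) (by norm_num) (by norm_num)
      (hg ▸ pow_orderOf_eq_one g) hw2 hc
    rw [S.fix_five hg] at c4 c6
    rw [S.card] at c6
    have hsub : (Fix α g ∩ Fix α w).card = 2 := by omega
    have : Fix α g ∩ Fix α w = Fix α g :=
      Finset.eq_of_subset_of_card_le Finset.inter_subset_left (by rw [hsub, S.fix_five hg])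
    exact hw1 (S.no_invol hw hg hc.symm fun z hz => mem_fix.mp (Finset.inter_eq_left.mp this hz))

/-- An involution fixes at most ten points. -/
theorem fix_invol_le (S : Is22 G α) {w : G} (hw : w * w = 1) (hw1 : w ≠ 1) : (Fix α w).card ≤ 10 := by
  classical
  cases nonempty_fintype G
  by_contra hcon
  have hwo : orderOf w = 2 := orderOf_eq_prime (by rw [pow_two]; exact hw) hw1
  obtain ⟨hlt, hev, -⟩ := S.fix_lt (by norm_num) hwo
  obtain ⟨h11, h7, h5⟩ := S.not_dvd_cent hw hw1 (by omega)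
  set f := (Fix α w).card
  set cl : Finset G := Finset.univ.image fun g => g * w * g⁻¹
  have hcl : cl.card = (Subgroup.centralizer ({w} : Set G)).index := by
    have h := MulAction.index_stabilizer (G := ConjAct G) w
    rw [ConjAct.stabilizer_eq_centralizer] at h
    have e : MulAction.orbit (ConjAct G) w = (cl : Set G) := by
      ext v
      simp only [MulAction.mem_orbit_iff, cl, Finset.coe_image, Finset.coe_univ, Set.image_univ,
        Set.mem_range, ConjAct.smul_def]
      exact ⟨fun ⟨g, hg⟩ => ⟨ConjAct.ofConjAct g, hg⟩, fun ⟨g, hg⟩ => ⟨ConjAct.toConjAct g, by simpa using hg⟩⟩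
    rw [e, Set.ncard_coe_finset] at h
    exact h.symm
  have hmul := Subgroup.index_mul_card (Subgroup.centralizer ({w} : Set G))
  rw [← hcl, S.order] at hmul
  have hdvd : ∀ p : ℕ, p.Prime → ¬ p ∣ Nat.card ↥(Subgroup.centralizer ({w} : Set G)) → p ∣ 443520 →
      p ∣ cl.card := fun p hp hn hd =>
    ((hp.dvd_mul).mp (hmul.symm ▸ hd)).resolve_right hn
  have h77 : 77 ∣ cl.card := (show Nat.Coprime 7 11 by norm_num).mul_dvd_of_dvd_of_dvd
    (hdvd 7 (by norm_num) h7 (by norm_num)) (hdvd 11 (by norm_num) h11 (by norm_num))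
  have hsum := S.sum_triples
  have hone : (1 : G) ∉ cl := by
    simp only [cl, Finset.mem_image, Finset.mem_univ, true_and, not_exists]
    intro g hg
    exact hw1 (conj_eq_one_iff.mp hg)
  have hbound : cl.card * ((f * f - f) * (f - 2)) + 9240 ≤ 443520 := by
    rw [← hsum]
    have h1 : ∑ g ∈ insert 1 cl, ((Fix α g).card * (Fix α g).card - (Fix α g).card) * ((Fix α g).card - 2)
        = cl.card * ((f * f - f) * (f - 2)) + 9240 := by
      rw [Finset.sum_insert hone, Finset.sum_congr rfl (g := fun _ => (f * f - f) * (f - 2)) fun g hg => ?_,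
        Finset.sum_const, smul_eq_mul, show (Fix α (1 : G)).card = 22 by
          rw [show Fix α (1 : G) = Finset.univ by ext; simp [mem_fix], Finset.card_univ, S.card]]
      · ring
      · obtain ⟨h, -, rfl⟩ := Finset.mem_image.mp hg
        rw [card_fix_conj]
    rw [← h1]
    exact Finset.sum_le_sum_of_subset (Finset.subset_univ _)
  have hcpos : 0 < cl.card := Finset.card_pos.mpr ⟨w, Finset.mem_image.mpr ⟨1, by simp, by simp⟩⟩
  obtain ⟨m, hm⟩ := h77
  rw [hm] at hbound hcpos
  rcases h5 with e | e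
  · rw [e] at hbound
    omega
  · have h385 : 5 ∣ m := ((show Nat.Coprime 5 77 by norm_num)).dvd_of_dvd_mul_left
      (hm ▸ hdvd 5 (by norm_num) e (by norm_num))
    obtain ⟨m', rfl⟩ := h385
    have : f = 12 ∨ f = 14 ∨ f = 16 ∨ f = 18 ∨ f = 20 := by omega
    rcases this with e' | e' | e' | e' | e' <;> rw [e'] at hbound <;> omega

end Is22

end CfsgLib.KGroups.MathieuIdent
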