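import Cfsg.Agent.Lib.KGroups.MathieuIdent.Order960

/-!
# Doubly transitive groups of order 443520 on 22 points

Fixed points of elements of odd prime order, triple transitivity, the two-point stabiliser.
-/

set_option autoImplicit false
open scoped Pointwise

namespace CfsgLib.KGroups.MathieuIdent

/-- Doubly transitive of degree 22 and order 443520. -/
structure Is22 (G α : Type*) [Group G] [MulAction G α] [Fintype α] : Prop where
  card : Fintype.card α = 22
  order : Nat.card G = 443520
  faithful : FaithfulSMul G α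
  two : MulAction.IsMultiplyPretransitive G α 2

/-- The stabiliser of two points. -/
abbrev K2 (G : Type*) {α : Type*} [Group G] [MulAction G α] (a b : α) : Subgroup G :=
  MulAction.stabilizer G a ⊓ MulAction.stabilizer G b

variable {G α : Type*} [Group G] [Finite G] [MulAction G α] [Fintype α] [DecidableEq α]

theorem mem_K2 {a b : α} {g : G} : g ∈ K2 G a b ↔ g • a = a ∧ g • b = b := Iff.rfl

/-- The orbit of `c` under the stabiliser of `a` and `b`. -/
noncomputable def orb (G : Type*) [Group G] [MulAction G α] (a b c : α) : Finset α := by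
  classical exact Finset.univ.filter fun v => ∃ h ∈ K2 G a b, h • c = v

omit [Finite G] [DecidableEq α] in
theorem mem_orb {a b c v : α} : v ∈ orb G a b c ↔ ∃ h : G, (h • a = a ∧ h • b = b) ∧ h • c = v := by
  simp [orb]

theorem card_orb_mul (a b c : α) :
    (orb G a b c).card * Nat.card ↥(K2 G a b ⊓ MulAction.stabilizer G c) = Nat.card ↥(K2 G a b) := by
  have h := MulAction.index_stabilizer (G := ↥(K2 G a b)) c
  have e : MulAction.orbit ↥(K2 G a b) c = (orb G a b c : Set α) := by
    ext v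
    simp [MulAction.mem_orbit_iff, mem_orb, Subgroup.smul_def, mem_K2]
  have e2 : MulAction.stabilizer ↥(K2 G a b) c
      = (K2 G a b ⊓ MulAction.stabilizer G c).subgroupOf (K2 G a b) := by
    ext g
    simp [Subgroup.mem_subgroupOf, Subgroup.smul_def, MulAction.mem_stabilizer_iff]
  rw [e, Set.ncard_coe_finset] at h
  rw [← h, e2]
  have := Subgroup.index_mul_card ((K2 G a b ⊓ MulAction.stabilizer G c).subgroupOf (K2 G a b))
  rwa [Nat.card_congr (Subgroup.subgroupOfEquivOfLe inf_le_left).toEquiv] at this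

omit [Finite G] in
theorem orb_stable {a b c : α} {g : G} (hg : g ∈ K2 G a b) {v : α} (hv : v ∈ orb G a b c) :
    g • v ∈ orb G a b c := by
  obtain ⟨h, hh, rfl⟩ := mem_orb.mp hv
  exact mem_orb.mpr ⟨g * h, (K2 G a b).mul_mem hg hh, mul_smul g h c⟩

theorem even_of_swap {β : Type*} [DecidableEq β] (S : Finset (β × β)) (hs : ∀ p ∈ S, (p.2, p.1) ∈ S)
    (hne : ∀ p ∈ S, p.1 ≠ p.2) : 2 ∣ S.card := by
  have h : ∑ p ∈ S, (1 : ZMod 2) = 0 := by
    refine Finset.sum_involution (fun p _ => (p.2, p.1)) (fun _ _ => by decide) ?_ hs (fun _ _ => rfl)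
    intro p hp _ h
    exact hne p hp (congrArg Prod.fst h).symm
  rw [Finset.sum_const, nsmul_one, ZMod.natCast_eq_zero_iff] at h
  exact h

namespace Is22

theorem fs (S : Is22 G α) : FaithfulSMul G α := S.faithful

theorem trans_pair (S : Is22 G α) {a b c d : α} (hab : a ≠ b) (hcd : c ≠ d) :
    ∃ g : G, g • a = c ∧ g • b = d :=
  (MulAction.is_two_pretransitive_iff (G := G) (α := α)).mp S.two hab hcd

theorem card_K2 (S : Is22 G α) {a b : α} (hab : a ≠ b) : Nat.card ↥(K2 G a b) = 960 := by
  have e : MulAction.stabilizer G (a, b) = K2 G a b := by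
    ext g; simp [mem_K2, MulAction.mem_stabilizer_iff, Prod.ext_iff]
  have horb : MulAction.orbit G (a, b) = ((Finset.univ : Finset α).offDiag : Set (α × α)) := by
    ext ⟨c, d⟩
    simp only [MulAction.mem_orbit_iff, Finset.mem_coe, Finset.mem_offDiag, Finset.mem_univ, true_and]
    constructor
    · rintro ⟨g, hg⟩
      obtain ⟨rfl, rfl⟩ := Prod.ext_iff.mp hg
      exact fun h => hab (smul_left_cancel g h)
    · intro h
      obtain ⟨g, h1, h2⟩ := S.trans_pair hab h
      exact ⟨g, Prod.ext h1 h2⟩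
  have h := Subgroup.index_mul_card (MulAction.stabilizer G (a, b))
  rw [MulAction.index_stabilizer, horb, Set.ncard_coe_finset, Finset.offDiag_card, Finset.card_univ,
    S.card, S.order, e] at h
  omega

theorem pair_of_two_le {g : G} (h : 2 ≤ (Fix α g).card) : ∃ a b : α, a ≠ b ∧ g ∈ K2 G a b := by
  obtain ⟨a, ha, b, hb, hab⟩ := Finset.one_lt_card.mp (show 1 < (Fix α g).card by omega)
  exact ⟨a, b, hab, mem_K2.mpr ⟨mem_fix.mp ha, mem_fix.mp hb⟩⟩

theorem order_dvd_960 (S : Is22 G α) {g : G} (h : 2 ≤ (Fix α g).card) : orderOf g ∣ 960 := by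
  obtain ⟨a, b, hab, hg⟩ := pair_of_two_le h
  rw [← S.card_K2 hab, ← Subgroup.orderOf_mk g hg]
  exact orderOf_dvd_natCard _

theorem fix_lt (S : Is22 G α) {g : G} {p : ℕ} (hp : p.Prime) (hg : orderOf g = p) :
    (Fix α g).card < 22 ∧ (Fix α g).card % p = 22 % p ∧ g ^ p = 1 := by
  have := S.fs
  have h1 : g ^ p = 1 := hg ▸ pow_orderOf_eq_one g
  refine ⟨S.card ▸ card_fix_lt (α := α) fun h => hp.ne_one (by rw [← hg, h, orderOf_one]), ?_, h1⟩
  rw [card_fix_mod hp h1, S.card]

theorem fix_seven (S : Is22 G α) {g : G} (hg : orderOf g = 7) : (Fix α g).card = 1 := by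
  obtain ⟨h1, h2, -⟩ := S.fix_lt (by norm_num) hg
  by_contra hne
  have := S.order_dvd_960 (g := g) (by omega)
  rw [hg] at this; norm_num at this

theorem fix_eleven (S : Is22 G α) {g : G} (hg : orderOf g = 11) : (Fix α g).card = 0 := by
  obtain ⟨h1, h2, -⟩ := S.fix_lt (by norm_num) hg
  by_contra hne
  have := S.order_dvd_960 (g := g) (by omega)
  rw [hg] at this; norm_num at this

theorem norm_dvd (S : Is22 G α) {y : G} {q : ℕ} (hq : q.Prime) (hy : orderOf y = q)
    (hsq : ¬ q ^ 2 ∣ 960) (h : 2 ≤ (Fix α y).card) :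
    ((Fix α y).card * (Fix α y).card - (Fix α y).card) ∣
        Nat.card ↥(Subgroup.normalizer ((Subgroup.zpowers y : Subgroup G) : Set G)) ∧
      Nat.card ↥(Subgroup.normalizer ((Subgroup.zpowers y : Subgroup G) : Set G)) ∣ 443520 := by
  obtain ⟨a, b, hab, hm⟩ := pair_of_two_le h
  have := S.two
  refine ⟨witt_pairs hq hy hab hm.1 hm.2 (by rw [S.card_K2 hab]; exact hsq), ?_⟩
  rw [← S.order]
  exact Subgroup.card_subgroup_dvd_card _

theorem fix_five (S : Is22 G α) {x : G} (hx : orderOf x = 5) : (Fix α x).card = 2 := by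
  obtain ⟨h1, h2, hx5⟩ := S.fix_lt (by norm_num) hx
  obtain ⟨hd, hN⟩ := S.norm_dvd (by norm_num) hx (by norm_num) (by omega)
  by_contra hne
  have hcases : (Fix α x).card = 7 ∨ (Fix α x).card = 12 ∨ (Fix α x).card = 17 := by omega
  rcases hcases with e | e | e <;> rw [e] at hd
  · obtain ⟨g, hg, hc⟩ := exists_commute (r := 7) (by norm_num) (by norm_num) hx (by norm_num)
      ((show 7 ∣ 7 * 7 - 7 by norm_num).trans hd)
    obtain ⟨c1, c2, c3, c4, c5, c6⟩ := commute_counts (α := α) (by norm_num) (by norm_num) (by norm_num)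
      (hg ▸ pow_orderOf_eq_one g) hx5 hc
    rw [S.fix_seven hg] at c4 c6
    rw [e] at c5; rw [S.card] at c6
    omega
  · obtain ⟨g, hg, hc⟩ := exists_commute (r := 11) (by norm_num) (by norm_num) hx (by norm_num)
      ((show 11 ∣ 12 * 12 - 12 by norm_num).trans hd)
    obtain ⟨c1, c2, c3, c4, c5, c6⟩ := commute_counts (α := α) (by norm_num) (by norm_num) (by norm_num)
      (hg ▸ pow_orderOf_eq_one g) hx5 hc
    rw [S.fix_eleven hg] at c4 c6
    rw [e] at c5; rw [S.card] at c6
    omega
  · have := ((show 17 ∣ 17 * 17 - 17 by norm_num).trans hd).trans hN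
    norm_num at this

theorem fix_three (S : Is22 G α) {y : G} (hy : orderOf y = 3) (h : 2 ≤ (Fix α y).card) :
    (Fix α y).card = 4 := by
  obtain ⟨h1, h2, hy3⟩ := S.fix_lt (by norm_num) hy
  obtain ⟨hd, hN⟩ := S.norm_dvd (by norm_num) hy (by norm_num) h
  by_contra hne
  have hcases : (Fix α y).card = 7 ∨ (Fix α y).card = 10 ∨ (Fix α y).card = 13 ∨
      (Fix α y).card = 16 ∨ (Fix α y).card = 19 := by omega
  rcases hcases with e | e | e | e | e <;> rw [e] at hd
  · obtain ⟨g, hg, hc⟩ := exists_commute (r := 7) (by norm_num) (by norm_num) hy (by norm_num)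
      ((show 7 ∣ 7 * 7 - 7 by norm_num).trans hd)
    obtain ⟨c1, c2, c3, c4, c5, c6⟩ := commute_counts (α := α) (by norm_num) (by norm_num) (by norm_num)
      (hg ▸ pow_orderOf_eq_one g) hy3 hc
    rw [S.fix_seven hg] at c4 c6
    rw [e] at c5; rw [S.card] at c6
    omega
  · obtain ⟨g, hg, hc⟩ := exists_commute (r := 5) (by norm_num) (by norm_num) hy (by norm_num)
      ((show 5 ∣ 10 * 10 - 10 by norm_num).trans hd)
    obtain ⟨c1, c2, c3, c4, c5, c6⟩ := commute_counts (α := α) (by norm_num) (by norm_num) (by norm_num)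
      (hg ▸ pow_orderOf_eq_one g) hy3 hc
    rw [S.fix_five hg] at c4 c6
    rw [e] at c5; rw [S.card] at c6
    omega
  · have := ((show 13 ∣ 13 * 13 - 13 by norm_num).trans hd).trans hN
    norm_num at this
  · obtain ⟨g, hg, hc⟩ := exists_commute (r := 5) (by norm_num) (by norm_num) hy (by norm_num)
      ((show 5 ∣ 16 * 16 - 16 by norm_num).trans hd)
    obtain ⟨c1, c2, c3, c4, c5, c6⟩ := commute_counts (α := α) (by norm_num) (by norm_num) (by norm_num)
      (hg ▸ pow_orderOf_eq_one g) hy3 hc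
    rw [S.fix_five hg] at c4 c6
    rw [e] at c5; rw [S.card] at c6
    omega
  · have := ((show 19 ∣ 19 * 19 - 19 by norm_num).trans hd).trans hN
    norm_num at this

theorem no_fifteen (S : Is22 G α) {x y : G} (hx : orderOf x = 5) (hy : orderOf y = 3)
    (hf : 2 ≤ (Fix α y).card) (hc : Commute x y) : False := by
  obtain ⟨-, -, hx5⟩ := S.fix_lt (by norm_num) hx
  obtain ⟨-, -, hy3⟩ := S.fix_lt (by norm_num) hy
  obtain ⟨c1, c2, c3, c4, c5, c6⟩ := commute_counts (α := α) (by norm_num) (by norm_num) (by norm_num)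
    hx5 hy3 hc
  rw [S.fix_five hx] at c4 c6
  rw [S.fix_three hy hf] at c5
  rw [S.card] at c6
  omega

theorem exists_el (S : Is22 G α) {a b : α} (hab : a ≠ b) :
    (∃ x : G, orderOf x = 5 ∧ x ∈ K2 G a b) ∧ ∃ y : G, orderOf y = 3 ∧ y ∈ K2 G a b := by
  constructor
  · have : Fact (Nat.Prime 5) := ⟨by norm_num⟩
    obtain ⟨g, hg⟩ := exists_prime_orderOf_dvd_card' (G := ↥(K2 G a b)) 5
      (by rw [S.card_K2 hab]; norm_num)
    exact ⟨g, by rw [Subgroup.orderOf_coe, hg], g.2⟩
  · have : Fact (Nat.Prime 3) := ⟨by norm_num⟩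
    obtain ⟨g, hg⟩ := exists_prime_orderOf_dvd_card' (G := ↥(K2 G a b)) 3
      (by rw [S.card_K2 hab]; norm_num)
    exact ⟨g, by rw [Subgroup.orderOf_coe, hg], g.2⟩

theorem fix_eq_five (S : Is22 G α) {a b : α} (hab : a ≠ b) {x : G} (hx : orderOf x = 5)
    (hm : x ∈ K2 G a b) : Fix α x = {a, b} := by
  refine (Finset.eq_of_subset_of_card_le ?_ (by rw [S.fix_five hx, Finset.card_pair hab])).symm
  intro z hz
  rcases Finset.mem_insert.mp hz with rfl | h
  · exact mem_fix.mpr hm.1
  · exact mem_fix.mpr (Finset.mem_singleton.mp h ▸ hm.2)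

theorem fix_outside (S : Is22 G α) {a b : α} (hab : a ≠ b) {y : G} (hy : orderOf y = 3)
    (hm : y ∈ K2 G a b) : (Fix α y \ {a, b}).card = 2 := by
  have hsub : ({a, b} : Finset α) ⊆ Fix α y := by
    intro z hz
    rcases Finset.mem_insert.mp hz with rfl | h
    · exact mem_fix.mpr hm.1
    · exact mem_fix.mpr (Finset.mem_singleton.mp h ▸ hm.2)
  have h4 := S.fix_three hy (by
    have := Finset.card_le_card hsub
    rw [Finset.card_pair hab] at this; exact this)
  rw [Finset.card_sdiff_of_subset hsub, h4, Finset.card_pair hab]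

omit [Finite G] in
theorem orb_off {a b c : α} (hac : c ≠ a) (hbc : c ≠ b) {v : α} (hv : v ∈ orb G a b c) :
    v ≠ a ∧ v ≠ b := by
  obtain ⟨h, ⟨h1, h2⟩, rfl⟩ := mem_orb.mp hv
  exact ⟨fun e => hac (smul_left_cancel h (e.trans h1.symm)),
    fun e => hbc (smul_left_cancel h (e.trans h2.symm))⟩

omit [Finite G] in
theorem mem_orb_self (a b c : α) : c ∈ orb G a b c :=
  mem_orb.mpr ⟨1, ⟨one_smul G a, one_smul G b⟩, one_smul G c⟩

theorem orb_eq_or_disjoint (a b c d : α) :
    orb G a b c = orb G a b d ∨ Disjoint (orb G a b c) (orb G a b d) := by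
  rw [or_iff_not_imp_right, Finset.not_disjoint_iff]
  rintro ⟨v, hc, hd⟩
  obtain ⟨h, hh, rfl⟩ := mem_orb.mp hc
  obtain ⟨k, hk, e⟩ := mem_orb.mp hd
  ext w
  simp only [mem_orb]
  constructor
  · rintro ⟨g, hg, rfl⟩
    exact ⟨g * (h⁻¹ * k), (K2 G a b).mul_mem hg ((K2 G a b).mul_mem ((K2 G a b).inv_mem hh) hk),
      by rw [mul_smul, mul_smul, e, inv_smul_smul]⟩
  · rintro ⟨g, hg, rfl⟩
    exact ⟨g * (k⁻¹ * h), (K2 G a b).mul_mem hg ((K2 G a b).mul_mem ((K2 G a b).inv_mem hk) hh),
      by rw [mul_smul, mul_smul, ← e, inv_smul_smul]⟩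

theorem orb_mod (S : Is22 G α) {a b c : α} (hab : a ≠ b) (hac : c ≠ a) (hbc : c ≠ b) :
    (orb G a b c).card % 5 = 0 ∧ ∀ y : G, orderOf y = 3 → y ∈ K2 G a b →
      (orb G a b c).card % 3 = (orb G a b c ∩ (Fix α y \ {a, b})).card % 3 := by
  constructor
  · obtain ⟨⟨x, hx, hm⟩, -⟩ := S.exists_el hab
    obtain ⟨-, -, hx5⟩ := S.fix_lt (by norm_num) hx
    rw [mod_fix (α := α) (by norm_num : Nat.Prime 5) hx5 _ (fun v hv => orb_stable hm hv)]
    have : orb G a b c ∩ Fix α x = ∅ := by
      ext v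
      simp only [Finset.mem_inter, Finset.notMem_empty, iff_false, not_and, S.fix_eq_five hab hx hm,
        Finset.mem_insert, Finset.mem_singleton]
      intro hv
      obtain ⟨h1, h2⟩ := orb_off hac hbc hv
      tauto
    rw [this]; rfl
  · intro y hy hm
    obtain ⟨-, -, hy3⟩ := S.fix_lt (by norm_num) hy
    rw [mod_fix (α := α) (by norm_num : Nat.Prime 3) hy3 _ (fun v hv => orb_stable hm hv)]
    congr 2
    ext v
    simp only [Finset.mem_inter, Finset.mem_sdiff, Finset.mem_insert, Finset.mem_singleton]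
    constructor
    · rintro ⟨hv, hf⟩
      obtain ⟨h1, h2⟩ := orb_off hac hbc hv
      exact ⟨hv, hf, by tauto⟩
    · rintro ⟨hv, hf, -⟩
      exact ⟨hv, hf⟩

theorem card_orb_dvd (S : Is22 G α) {a b : α} (hab : a ≠ b) (c : α) : (orb G a b c).card ∣ 960 :=
  Dvd.intro _ ((card_orb_mul a b c).trans (S.card_K2 hab))

/-- Relation defined by an orbit: `u` to `v`. -/
noncomputable def slice (G : Type*) [Group G] [MulAction G α] (a b c u : α) : Finset α := by
  classical exact Finset.univ.filter fun v => ∃ h : G, h • a = a ∧ h • b = u ∧ h • c = v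

omit [Finite G] [DecidableEq α] in
theorem mem_slice {a b c u v : α} :
    v ∈ slice G a b c u ↔ ∃ h : G, h • a = a ∧ h • b = u ∧ h • c = v := by
  simp [slice]

omit [Finite G] in
theorem slice_move {a b c u : α} {g : G} (hg : g • a = a) :
    slice G a b c (g • u) = (slice G a b c u).image (g • ·) := by
  ext v
  simp only [mem_slice, Finset.mem_image]
  constructor
  · rintro ⟨h, h1, h2, rfl⟩
    exact ⟨(g⁻¹ * h) • c, ⟨g⁻¹ * h, by rw [mul_smul, h1, inv_smul_eq_iff, hg],
      by rw [mul_smul, h2, inv_smul_smul], rfl⟩, by rw [mul_smul, smul_inv_smul]⟩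
  · rintro ⟨w, ⟨h, h1, h2, rfl⟩, rfl⟩
    exact ⟨g * h, by rw [mul_smul, h1, hg], by rw [mul_smul, h2], mul_smul g h c⟩

theorem card_slice (S : Is22 G α) {a b c u : α} (hab : a ≠ b) (hu : u ≠ a) :
    (slice G a b c u).card = (orb G a b c).card := by
  obtain ⟨g, hg, rfl⟩ := S.trans_pair hab hu.symm
  rw [slice_move hg, Finset.card_image_of_injective _ (MulAction.injective g)]
  congr 1
  ext v
  simp [mem_slice, mem_orb, and_assoc]

theorem slice_off {a b c : α} (hab : a ≠ b) (hac : c ≠ a) (hbc : c ≠ b) {u v : α}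
    (hv : v ∈ slice G a b c u) : u ≠ a ∧ v ≠ a ∧ v ≠ u := by
  obtain ⟨h, h1, rfl, rfl⟩ := mem_slice.mp hv
  exact ⟨fun e => hab (smul_left_cancel h (e.trans h1.symm)).symm,
    fun e => hac (smul_left_cancel h (e.trans h1.symm)), fun e => hbc (smul_left_cancel h e)⟩

/-- The reversed relation is the relation of another orbit, of the same size. -/
theorem exists_reverse (S : Is22 G α) {a b c : α} (hab : a ≠ b) (hac : c ≠ a) (hbc : c ≠ b) :
    ∃ d : α, d ≠ a ∧ d ≠ b ∧ (orb G a b d).card = (orb G a b c).card ∧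
      ∀ u v : α, v ∈ slice G a b c u ↔ u ∈ slice G a b d v := by
  obtain ⟨g, hg1, hg2⟩ := S.trans_pair (Ne.symm hac) hab
  refine ⟨g • b, fun e => hab (smul_left_cancel g (e.trans hg1.symm)).symm,
    fun e => hbc (smul_left_cancel g (e.trans hg2.symm)).symm, ?_, ?_⟩
  · -- count the pairs both ways
    have hiff : ∀ u v : α, v ∈ slice G a b c u ↔ u ∈ slice G a b (g • b) v := by
      intro u v
      simp only [mem_slice]
      constructor
      · rintro ⟨h, h1, h2, h3⟩
        exact ⟨h * g⁻¹, by rw [mul_smul, inv_smul_eq_iff.mpr hg1.symm, h1],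
          by rw [mul_smul, inv_smul_eq_iff.mpr hg2.symm, h3], by rw [mul_smul, inv_smul_smul, h2]⟩
      · rintro ⟨h, h1, h2, h3⟩
        exact ⟨h * g, by rw [mul_smul, hg1, h1], by rw [mul_smul, h3], by rw [mul_smul, hg2, h2]⟩
    have hd1 : g • b ≠ a := fun e => hab (smul_left_cancel g (e.trans hg1.symm)).symm
    have hd2 : g • b ≠ b := fun e => hbc (smul_left_cancel g (e.trans hg2.symm)).symm
    have key : ∀ c' : α, c' ≠ a → c' ≠ b →
        ∑ u : α, (slice G a b c' u).card = 21 * (orb G a b c').card := by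
      intro c' h1 h2
      rw [← Finset.add_sum_erase _ _ (Finset.mem_univ a)]
      have h0 : slice G a b c' a = ∅ := Finset.eq_empty_of_forall_notMem fun v hv =>
        (slice_off hab h1 h2 hv).1 rfl
      rw [h0, Finset.card_empty, zero_add,
        Finset.sum_congr rfl fun u hu => S.card_slice hab (Finset.ne_of_mem_erase hu), Finset.sum_const,
        Finset.card_erase_of_mem (Finset.mem_univ a), Finset.card_univ, S.card, smul_eq_mul]
    have hsum : ∑ u : α, (slice G a b c u).card = ∑ v : α, (slice G a b (g • b) v).card := by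
      classical
      have e1 : ∀ u, (slice G a b c u).card = ∑ v : α, if v ∈ slice G a b c u then 1 else 0 := fun u => by
        simp
      have e2 : ∀ v, (slice G a b (g • b) v).card = ∑ u : α, if v ∈ slice G a b c u then 1 else 0 := fun v => by
        simp [hiff]
      simp only [e1, e2]
      exact Finset.sum_comm
    rw [key c hac hbc, key _ hd1 hd2] at hsum
    omega
  · intro u v
    simp only [mem_slice]
    constructor
    · rintro ⟨h, h1, h2, h3⟩
      exact ⟨h * g⁻¹, by rw [mul_smul, inv_smul_eq_iff.mpr hg1.symm, h1],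
        by rw [mul_smul, inv_smul_eq_iff.mpr hg2.symm, h3], by rw [mul_smul, inv_smul_smul, h2]⟩
    · rintro ⟨h, h1, h2, h3⟩
      exact ⟨h * g, by rw [mul_smul, hg1, h1], by rw [mul_smul, h3], by rw [mul_smul, hg2, h2]⟩

omit [Finite G] in
theorem slice_self (a b c : α) : slice G a b c b = orb G a b c := by
  ext v; simp [mem_slice, mem_orb, and_assoc]

theorem no_five (S : Is22 G α) {a b c : α} (hab : a ≠ b) (hac : c ≠ a) (hbc : c ≠ b) :
    (orb G a b c).card ≠ 5 := by
  intro h5
  obtain ⟨-, ⟨y, hy, hm⟩⟩ := S.exists_el hab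
  obtain ⟨d, hd1, hd2, hdc, hiff⟩ := S.exists_reverse hab hac hbc
  set F := Fix α y \ {a, b}
  have hF : F.card = 2 := S.fix_outside hab hy hm
  have key : ∀ e, e ≠ a → e ≠ b → (orb G a b e).card = 5 → F ⊆ orb G a b e := by
    intro e h1 h2 he
    have h : (orb G a b e).card % 3 = (orb G a b e ∩ F).card % 3 := (S.orb_mod hab h1 h2).2 y hy hm
    rw [he] at h
    have hle : (orb G a b e ∩ F).card ≤ F.card := Finset.card_le_card Finset.inter_subset_right
    have : orb G a b e ∩ F = F := Finset.eq_of_subset_of_card_le Finset.inter_subset_right (by omega)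
    exact this ▸ Finset.inter_subset_left
  have heq : orb G a b c = orb G a b d := by
    rcases orb_eq_or_disjoint (G := G) a b c d with h | h
    · exact h
    · obtain ⟨f, hf⟩ := Finset.card_pos.mp (show 0 < F.card by omega)
      exact (Finset.disjoint_left.mp h (key c hac hbc h5 hf) (key d hd1 hd2 (hdc.trans h5) hf)).elim
  have hs : ∀ u, slice G a b d u = slice G a b c u := by
    intro u
    ext v
    simp only [mem_slice]
    constructor
    · rintro ⟨h, h1, h2, rfl⟩
      obtain ⟨k, ⟨k1, k2⟩, e⟩ := mem_orb.mp (heq ▸ mem_orb_self (G := G) a b d)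
      exact ⟨h * k, by rw [mul_smul, k1, h1], by rw [mul_smul, k2, h2], by rw [mul_smul, e]⟩
    · rintro ⟨h, h1, h2, rfl⟩
      obtain ⟨k, ⟨k1, k2⟩, e⟩ := mem_orb.mp (heq ▸ mem_orb_self (G := G) a b c)
      exact ⟨h * k, by rw [mul_smul, k1, h1], by rw [mul_smul, k2, h2], by rw [mul_smul, e]⟩
  set R := ((Finset.univ.erase a) ×ˢ (Finset.univ : Finset α)).filter
    fun p => p.2 ∈ slice G a b c p.1
  have hR : R.card = 105 := by
    rw [Finset.card_filter, Finset.sum_product,
      Finset.sum_congr rfl (g := fun _ => 5) fun u hu => by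
        rw [← h5, ← S.card_slice (u := u) hab (Finset.ne_of_mem_erase hu)]; simp,
      Finset.sum_const, Finset.card_erase_of_mem (Finset.mem_univ a), Finset.card_univ, S.card,
      smul_eq_mul]
  have := even_of_swap R (fun p hp => by
      simp only [R, Finset.mem_filter, Finset.mem_product, Finset.mem_univ, and_true,
        Finset.mem_erase, ne_eq] at hp ⊢
      exact ⟨(slice_off hab hac hbc hp.2).2.1, hs p.2 ▸ (hiff p.1 p.2).mp hp.2⟩)
    (fun p hp => by
      simp only [R, Finset.mem_filter] at hp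
      exact (slice_off hab hac hbc hp.2).2.2.symm)
  omega

theorem fix_cases (S : Is22 G α) {a b c : α} (hab : a ≠ b) (hac : c ≠ a) (hbc : c ≠ b) :
    (orb G a b c).card = 10 ∨ (orb G a b c).card = 20 := by
  have h5 := (S.orb_mod hab hac hbc).1
  have hsub : orb G a b c ⊆ Finset.univ \ {a, b} := fun v hv => by
    obtain ⟨h1, h2⟩ := orb_off hac hbc hv
    simp [h1, h2]
  have hle := Finset.card_le_card hsub
  rw [Finset.card_sdiff_of_subset (Finset.subset_univ _), Finset.card_univ, S.card,
    Finset.card_pair hab] at hle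
  have hpos : 0 < (orb G a b c).card := Finset.card_pos.mpr ⟨c, mem_orb_self a b c⟩
  have hne5 := S.no_five hab hac hbc
  by_contra hcon
  have h15 : (orb G a b c).card = 15 := by omega
  obtain ⟨d, hd, hd'⟩ := Finset.exists_mem_notMem_of_card_lt_card
    (s := orb G a b c) (t := Finset.univ \ {a, b}) (by
      rw [Finset.card_sdiff_of_subset (Finset.subset_univ _), Finset.card_univ, S.card,
        Finset.card_pair hab, h15]; norm_num)
  simp only [Finset.mem_sdiff, Finset.mem_univ, true_and, Finset.mem_insert, Finset.mem_singleton,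
    not_or] at hd
  rcases orb_eq_or_disjoint (G := G) a b c d with h | h
  · exact hd' (h ▸ mem_orb_self a b d)
  · have hsub2 : orb G a b c ∪ orb G a b d ⊆ Finset.univ \ {a, b} := fun v hv => by
      rcases Finset.mem_union.mp hv with hv | hv
      · exact hsub hv
      · obtain ⟨h1, h2⟩ := orb_off hd.1 hd.2 hv
        simp [h1, h2]
    have hle2 := Finset.card_le_card hsub2
    rw [Finset.card_union_of_disjoint h, Finset.card_sdiff_of_subset (Finset.subset_univ _),
      Finset.card_univ, S.card, Finset.card_pair hab, h15] at hle2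
    have := (S.orb_mod hab hd.1 hd.2).1
    have := S.no_five hab hd.1 hd.2
    have : 0 < (orb G a b d).card := Finset.card_pos.mpr ⟨d, mem_orb_self a b d⟩
    omega

/-- The two-point stabiliser is transitive on the other twenty points. -/
theorem card_orb (S : Is22 G α) {a b c : α} (hab : a ≠ b) (hac : c ≠ a) (hbc : c ≠ b) :
    (orb G a b c).card = 20 := by
  refine (S.fix_cases hab hac hbc).resolve_left fun h10 => ?_
  obtain ⟨-, ⟨y, hy, hm⟩⟩ := S.exists_el hab
  set F := Fix α y \ {a, b}
  have hF : F.card = 2 := S.fix_outside hab hy hm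
  set O := orb G a b c
  have hO2 : O.card % 3 = (O ∩ F).card % 3 := (S.orb_mod hab hac hbc).2 y hy hm
  rw [h10] at hO2
  have hOF : (O ∩ F).card ≤ F.card := Finset.card_le_card Finset.inter_subset_right
  have hOF1 : (O ∩ F).card = 1 := by omega
  obtain ⟨p, hp⟩ := Finset.card_eq_one.mp hOF1
  obtain ⟨p', hp'⟩ := Finset.card_eq_one.mp (show (F \ O).card = 1 by
    rw [Finset.card_sdiff]; omega)
  have hpO : p ∈ O ∧ p ∈ F := Finset.mem_inter.mp (hp ▸ Finset.mem_singleton_self p)
  have hp'O : p' ∈ F ∧ p' ∉ O := Finset.mem_sdiff.mp (hp' ▸ Finset.mem_singleton_self p')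
  have hfix : Fix α y = {a, b, p, p'} := by
    ext v
    simp only [Finset.mem_insert, Finset.mem_singleton]
    constructor
    · intro hv
      by_cases hab' : v = a ∨ v = b
      · tauto
      push Not at hab'
      have hvF : v ∈ F := Finset.mem_sdiff.mpr ⟨hv, by simp [hab'.1, hab'.2]⟩
      by_cases hvO : v ∈ O
      · have : v ∈ O ∩ F := Finset.mem_inter.mpr ⟨hvO, hvF⟩
        rw [hp, Finset.mem_singleton] at this; tauto
      · have : v ∈ F \ O := Finset.mem_sdiff.mpr ⟨hvF, hvO⟩
        rw [hp', Finset.mem_singleton] at this; tauto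
    · rintro (rfl | rfl | rfl | rfl)
      · exact mem_fix.mpr hm.1
      · exact mem_fix.mpr hm.2
      · exact (Finset.mem_sdiff.mp hpO.2).1
      · exact (Finset.mem_sdiff.mp hp'O.1).1
  obtain ⟨d, hd1, hd2, hdc, hiff⟩ := S.exists_reverse hab hac hbc
  obtain ⟨hpa, hpb⟩ := orb_off hac hbc hpO.1
  obtain ⟨hp'a, hp'b⟩ : p' ≠ a ∧ p' ≠ b := by
    have := (Finset.mem_sdiff.mp hp'O.1).2
    simp at this; tauto
  have hmod : ∀ u, u ∈ Fix α y → u ≠ a →
      (slice G a b c u ∩ ({b, p, p'} : Finset α)).card % 3 = 1 := by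
    intro u hu hua
    have hinv : ∀ v ∈ slice G a b c u, y • v ∈ slice G a b c u := fun v hv => by
      have := slice_move (G := G) (b := b) (c := c) (u := u) hm.1
      rw [mem_fix.mp hu] at this
      rw [this]; exact Finset.mem_image_of_mem _ hv
    obtain ⟨-, -, hy3⟩ := S.fix_lt (by norm_num) hy
    have h := mod_fix (α := α) (by norm_num : Nat.Prime 3) hy3 _ hinv
    rw [S.card_slice hab hua, h10, hfix] at h
    have e : slice G a b c u ∩ {a, b, p, p'} = slice G a b c u ∩ {b, p, p'} := by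
      ext v
      simp only [Finset.mem_inter, Finset.mem_insert, Finset.mem_singleton]
      refine ⟨fun ⟨hv, h⟩ => ⟨hv, h.resolve_left (slice_off hab hac hbc hv).2.1⟩,
        fun ⟨hv, h⟩ => ⟨hv, Or.inr h⟩⟩
    rw [e] at h
    exact h.symm
  rcases orb_eq_or_disjoint (G := G) a b c d with heq | hdis
  · -- a symmetric relation
    have hsym : ∀ u v, v ∈ slice G a b c u → u ∈ slice G a b c v := by
      intro u v hv
      obtain ⟨h, h1, h2, h3⟩ := mem_slice.mp ((hiff u v).mp hv)
      obtain ⟨k, ⟨k1, k2⟩, e⟩ := mem_orb.mp (heq ▸ mem_orb_self (G := G) a b d)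
      exact mem_slice.mpr ⟨h * k, by rw [mul_smul, k1, h1], by rw [mul_smul, k2, h2],
        by rw [mul_smul, e, h3]⟩
    have hbp : b ∈ slice G a b c p := hsym b p (by rw [slice_self]; exact hpO.1)
    have hbp' : b ∉ slice G a b c p' := fun h => hp'O.2 (by
      have h' := hsym p' b h; rwa [slice_self] at h')
    have h1 := hmod p (mem_fix.mpr (mem_fix.mp (Finset.mem_sdiff.mp hpO.2).1)) hpa
    have h2 := hmod p' (Finset.mem_sdiff.mp hp'O.1).1 hp'a
    have hpp : p ∉ slice G a b c p := fun h => (slice_off hab hac hbc h).2.2 rfl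
    have hpp' : p' ∉ slice G a b c p' := fun h => (slice_off hab hac hbc h).2.2 rfl
    have hne : p ≠ p' := fun h => hp'O.2 (h ▸ hpO.1)
    by_cases hq : p' ∈ slice G a b c p
    · rw [show slice G a b c p ∩ ({b, p, p'} : Finset α) = {b, p'} by
        ext v; simp only [Finset.mem_inter, Finset.mem_insert, Finset.mem_singleton]
        constructor
        · rintro ⟨hv, rfl | rfl | rfl⟩ <;> tauto
        · rintro (rfl | rfl) <;> tauto, Finset.card_pair (Ne.symm hp'b)] at h1
      omega
    · have hq' : p ∉ slice G a b c p' := fun h => hq (hsym p' p h)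
      rw [show slice G a b c p' ∩ ({b, p, p'} : Finset α) = ∅ by
        ext v; simp only [Finset.mem_inter, Finset.mem_insert, Finset.mem_singleton, Finset.notMem_empty,
          iff_false]
        rintro ⟨hv, rfl | rfl | rfl⟩ <;> tauto, Finset.card_empty] at h2
      omega
  · -- a tournament on the twenty-one points
    have hunion : ∀ v, v ≠ a → v ≠ b → v ∈ O ∨ v ∈ orb G a b d := by
      intro v h1 h2
      have hsub : O ∪ orb G a b d ⊆ Finset.univ \ {a, b} := fun w hw => by
        rcases Finset.mem_union.mp hw with hw | hw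
        · obtain ⟨e1, e2⟩ := orb_off hac hbc hw; simp [e1, e2]
        · obtain ⟨e1, e2⟩ := orb_off hd1 hd2 hw; simp [e1, e2]
      have heq := Finset.eq_of_subset_of_card_le hsub (by
        rw [Finset.card_union_of_disjoint hdis, hdc, h10,
          Finset.card_sdiff_of_subset (Finset.subset_univ _), Finset.card_univ, S.card,
          Finset.card_pair hab])
      exact Finset.mem_union.mp (heq ▸ (by simp [h1, h2]))
    have hcoord : ∀ u v, u ≠ a → v ≠ a → u ≠ v →
        (v ∈ slice G a b c u ↔ u ∉ slice G a b c v) := by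
      intro u v hu hv huv
      obtain ⟨g, hg1, hg2⟩ := S.trans_pair hab (Ne.symm hu)
      have hgi : g⁻¹ • a = a := inv_smul_eq_iff.mpr hg1.symm
      set w := g⁻¹ • v
      have hw1 : w ≠ a := fun e => hv (by rw [← smul_inv_smul g v, show g⁻¹ • v = a from e, hg1])
      have hw2 : w ≠ b := fun e => huv (by rw [← smul_inv_smul g v, show g⁻¹ • v = b from e, hg2])
      have hin : ∀ e : α, v ∈ slice G a b e u ↔ w ∈ orb G a b e := fun e => by
        rw [← slice_self a b e, ← hg2, slice_move hg1]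
        constructor
        · intro h
          obtain ⟨z, hz, hzv⟩ := Finset.mem_image.mp h
          rwa [show w = z by simp only [w, ← hzv, inv_smul_smul]]
        · intro h
          exact Finset.mem_image.mpr ⟨w, h, smul_inv_smul g v⟩
      rw [hiff v u, hin c, hin d]
      constructor
      · exact fun h h' => Finset.disjoint_left.mp hdis h h'
      · exact fun h => (hunion w hw1 hw2).resolve_right h
    set n := (slice G a b c p ∩ O).card
    have hn : ∀ u ∈ O, (slice G a b c u ∩ O).card = n := by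
      intro u hu
      obtain ⟨h, hh, e1⟩ := mem_orb.mp hpO.1
      obtain ⟨k, hk, e2⟩ := mem_orb.mp hu
      have hm' : k * h⁻¹ ∈ K2 G a b := (K2 G a b).mul_mem hk ((K2 G a b).inv_mem hh)
      have e : (k * h⁻¹) • p = u := by rw [mul_smul, ← e1, inv_smul_smul, e2]
      have himg : O.image ((k * h⁻¹) • ·) = O :=
        Finset.eq_of_subset_of_card_le (Finset.image_subset_iff.mpr fun v hv => orb_stable hm' hv)
          (by rw [Finset.card_image_of_injective _ (MulAction.injective _)])
      have hinj : Function.Injective (fun v : α => (k * h⁻¹) • v) := MulAction.injective _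
      calc (slice G a b c u ∩ O).card
          = (((slice G a b c p).image ((k * h⁻¹) • ·)) ∩ O.image ((k * h⁻¹) • ·)).card := by
            rw [himg, ← slice_move hm'.1, e]
        _ = n := by rw [← Finset.image_inter _ _ hinj, Finset.card_image_of_injective _ hinj]
    set A := O.offDiag.filter fun q => q.2 ∈ slice G a b c q.1
    have hA : A.card = O.card * n := by
      have e : A = (O ×ˢ O).filter fun q => q.2 ∈ slice G a b c q.1 := by
        ext q
        simp only [A, Finset.mem_filter, Finset.mem_offDiag, Finset.mem_product]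
        exact ⟨fun ⟨⟨h1, h2, _⟩, h⟩ => ⟨⟨h1, h2⟩, h⟩,
          fun ⟨⟨h1, h2⟩, h⟩ => ⟨⟨h1, h2, (slice_off hab hac hbc h).2.2.symm⟩, h⟩⟩
      rw [e, Finset.card_filter, Finset.sum_product, Finset.sum_congr rfl (g := fun _ => n) fun u hu => ?_,
        Finset.sum_const, smul_eq_mul]
      rw [← hn u hu, Finset.inter_comm, ← Finset.filter_mem_eq_inter, Finset.card_filter]
    have hB : (O.offDiag.filter fun q => q.2 ∉ slice G a b c q.1).card = A.card := by
      refine Finset.card_bij' (fun q _ => (q.2, q.1)) (fun q _ => (q.2, q.1)) ?_ ?_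
        (fun _ _ => rfl) (fun _ _ => rfl) <;>
      · intro q hq
        simp only [A, Finset.mem_filter, Finset.mem_offDiag] at hq ⊢
        obtain ⟨⟨h1, h2, h3⟩, h4⟩ := hq
        have := hcoord q.1 q.2 (orb_off hac hbc h1).1 (orb_off hac hbc h2).1 h3
        have := hcoord q.2 q.1 (orb_off hac hbc h2).1 (orb_off hac hbc h1).1 (Ne.symm h3)
        tauto
    have := Finset.card_filter_add_card_filter_not (s := O.offDiag) (fun q => q.2 ∈ slice G a b c q.1)
    rw [hB, hA, Finset.offDiag_card, h10] at this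
    omega

/-- The group is triply transitive. -/
theorem trans_triple (S : Is22 G α) {a b c a' b' c' : α} (h1 : a ≠ b) (h2 : a ≠ c) (h3 : b ≠ c)
    (h1' : a' ≠ b') (h2' : a' ≠ c') (h3' : b' ≠ c') :
    ∃ g : G, g • a = a' ∧ g • b = b' ∧ g • c = c' := by
  obtain ⟨g, rfl, rfl⟩ := S.trans_pair h1 h1'
  have hc1 : g⁻¹ • c' ≠ a := fun e => h2' (by rw [← e, smul_inv_smul])
  have hc2 : g⁻¹ • c' ≠ b := fun e => h3' (by rw [← e, smul_inv_smul])
  have hall : orb G a b c = Finset.univ \ {a, b} := Finset.eq_of_subset_of_card_le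
    (fun v hv => by obtain ⟨e1, e2⟩ := orb_off h2.symm h3.symm hv; simp [e1, e2])
    (by rw [S.card_orb h1 h2.symm h3.symm, Finset.card_sdiff_of_subset (Finset.subset_univ _),
      Finset.card_univ, S.card, Finset.card_pair h1])
  obtain ⟨h, ⟨e1, e2⟩, e3⟩ := mem_orb.mp
    (show g⁻¹ • c' ∈ orb G a b c by rw [hall]; simp [hc1, hc2])
  exact ⟨g * h, by rw [mul_smul, e1], by rw [mul_smul, e2], by rw [mul_smul, e3, smul_inv_smul]⟩

theorem card_L (S : Is22 G α) {a b c : α} (h1 : a ≠ b) (h2 : a ≠ c) (h3 : b ≠ c) :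
    Nat.card ↥(K2 G a b ⊓ MulAction.stabilizer G c) = 48 := by
  have := card_orb_mul (G := G) a b c
  rw [S.card_orb h1 h2.symm h3.symm, S.card_K2 h1] at this
  omega

theorem norm_three_K2 (S : Is22 G α) {a b : α} (hab : a ≠ b) (y : ↥(K2 G a b)) (hy : orderOf y = 3) :
    ¬ 5 ∣ Nat.card ↥(Subgroup.normalizer ((Subgroup.zpowers y : Subgroup ↥(K2 G a b)) : Set ↥(K2 G a b))) := by
  intro h
  obtain ⟨x, hx, hc⟩ := exists_commute (by norm_num) (by norm_num) hy (by norm_num) h
  refine S.no_fifteen (x := (x : G)) (y := (y : G)) (by rw [Subgroup.orderOf_coe, hx])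
    (by rw [Subgroup.orderOf_coe, hy]) ?_ (congrArg Subtype.val hc.eq)
  have hsub : ({a, b} : Finset α) ⊆ Fix α (y : G) := by
    intro z hz
    rcases Finset.mem_insert.mp hz with rfl | h
    · exact mem_fix.mpr y.2.1
    · exact mem_fix.mpr (Finset.mem_singleton.mp h ▸ y.2.2)
  have := Finset.card_le_card hsub
  rwa [Finset.card_pair hab] at this

end Is22

end CfsgLib.KGroups.MathieuIdent
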