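import Cfsg.Agent.Lib.KGroups.MathieuIdent.Five22
import Cfsg.Agent.Lib.Solvable.Basic

/-!
# The normal Sylow 2-subgroup of a three-point stabiliser fixes six points
-/

set_option autoImplicit false
open scoped Pointwise

namespace CfsgLib.KGroups.MathieuIdent

theorem five_two_fix : ∀ i j : Fin 5, i ≠ j → ∀ g : Equiv.Perm (Fin 5), g * g = 1 → g i = i → g j = j →
    Equiv.Perm.sign g = 1 → g = 1 := by decide +kernel

/-- A Sylow two count: in a group of order 48 there are one or three. -/
theorem card_sylow_two_48 {L : Type*} [Group L] [Finite L] (hL : Nat.card L = 48) :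
    Nat.card (Sylow 2 L) = 1 ∨ Nat.card (Sylow 2 L) = 3 := by
  have : Fact (Nat.Prime 2) := ⟨Nat.prime_two⟩
  obtain ⟨P⟩ := (inferInstance : Nonempty (Sylow 2 L))
  have h1 := card_sylow_modEq_one 2 L
  have h2 : Nat.card (Sylow 2 L) ∣ 48 := hL ▸ (P.card_dvd_index.trans P.index_dvd_card)
  have h3 : Nat.card (Sylow 2 L) ∈ Nat.divisors 48 := Nat.mem_divisors.mpr ⟨h2, by norm_num⟩
  rw [Nat.ModEq] at h1
  have : ∀ j ∈ Nat.divisors 48, j % 2 = 1 % 2 → j = 1 ∨ j = 3 := by decide +kernel
  exact this _ h3 h1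

theorem card_sylow_48 {L : Type*} [Group L] [Finite L] (hL : Nat.card L = 48) (P : Sylow 2 L) :
    Nat.card (P : Subgroup L) = 16 := by
  have : Fact (Nat.Prime 2) := ⟨Nat.prime_two⟩
  obtain ⟨k, hk⟩ := P.2.exists_card_eq
  have h2 : ¬ 2 ∣ (P : Subgroup L).index := P.not_dvd_index
  have h3 := Subgroup.index_mul_card (P : Subgroup L)
  rw [hL, hk] at h3
  have hk5 : k ≤ 5 := by
    by_contra hc
    have : 2 ^ 6 ∣ 48 := (pow_dvd_pow 2 (show 6 ≤ k by omega)).trans (Dvd.intro_left _ h3)
    norm_num at this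
  interval_cases k <;> norm_num at h3 hk ⊢ <;> omega

theorem card_mul_le {G : Type*} [Group G] [Finite G] (H K : Subgroup G) :
    Nat.card H * Nat.card K ≤ Nat.card G * Nat.card ↥(H ⊓ K) := by
  have h1 : H.relIndex K ≤ H.index := by
    rw [← Subgroup.relIndex_top_right]
    exact Subgroup.relIndex_le_of_le_right le_top Subgroup.index_ne_zero_of_finite
  have h2 := Subgroup.index_mul_card H
  have h3 : H.relIndex K * Nat.card ↥(H ⊓ K) = Nat.card K := by
    rw [← Subgroup.inf_relIndex_right]
    have := Subgroup.index_mul_card ((H ⊓ K).subgroupOf K)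
    rwa [Nat.card_congr (Subgroup.subgroupOfEquivOfLe inf_le_right).toEquiv] at this
  rw [← h2, ← h3]
  calc Nat.card H * (H.relIndex K * Nat.card ↥(H ⊓ K))
      ≤ Nat.card H * (H.index * Nat.card ↥(H ⊓ K)) := by gcongr
    _ = _ := by ring

theorem card_sup_mul {G : Type*} [Group G] [Finite G] (R L : Subgroup G) [R.Normal] :
    Nat.card ↥(R ⊔ L) * Nat.card ↥(R ⊓ L) = Nat.card R * Nat.card L := by
  rw [sup_comm, CfsgLib.Solvable.Basic.card_sup_mul R L, mul_comm]

namespace Is22

variable {G α : Type*} [Group G] [Finite G] [MulAction G α] [Fintype α] [DecidableEq α]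

/-- The data at two points: a normal subgroup of order 16 and the quotient action on five points. -/
theorem exists_kernel (S : Is22 G α) {a b : α} (hab : a ≠ b) :
    ∃ (R : Subgroup ↥(K2 G a b)) (ψ : ↥(K2 G a b) →* Equiv.Perm (Fin 5)), R.Normal ∧ Nat.card R = 16 ∧
      ψ.ker = R ∧ (∀ g, Equiv.Perm.sign (ψ g) = 1) := by
  obtain ⟨M, hM⟩ := (S.is960 hab).exists_index_five
  obtain ⟨ψ, e, hker, hs, -⟩ := (S.is960 hab).exists_hom M hM
  exact ⟨M.normalCore, ψ, inferInstance, ((S.is960 hab).kernel M hM).1, hker, hs⟩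

theorem stab_subgroupOf (a b c : α) :
    MulAction.stabilizer ↥(K2 G a b) c = (K2 G a b ⊓ MulAction.stabilizer G c).subgroupOf (K2 G a b) := by
  ext g
  simp [Subgroup.mem_subgroupOf, Subgroup.smul_def, MulAction.mem_stabilizer_iff]

theorem card_stab3 (S : Is22 G α) {a b c : α} (hab : a ≠ b) (hca : c ≠ a) (hcb : c ≠ b) :
    Nat.card ↥(MulAction.stabilizer ↥(K2 G a b) c) = 48 := by
  rw [stab_subgroupOf, Nat.card_congr (Subgroup.subgroupOfEquivOfLe inf_le_left).toEquiv,
    S.card_L hab hca.symm hcb.symm]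

theorem trans20 (S : Is22 G α) {a b c d : α} (hab : a ≠ b) (hca : c ≠ a) (hcb : c ≠ b)
    (hda : d ≠ a) (hdb : d ≠ b) : ∃ k : ↥(K2 G a b), k • c = d := by
  obtain ⟨g, h1, h2, h3⟩ := S.trans_triple hab hca.symm hcb.symm hab hda.symm hdb.symm
  exact ⟨⟨g, h1, h2⟩, h3⟩

omit [Finite G] [Fintype α] [DecidableEq α] in
theorem ne_smul {a b c : α} (k : ↥(K2 G a b)) (hca : c ≠ a) (hcb : c ≠ b) : k • c ≠ a ∧ k • c ≠ b :=
  ⟨fun e => hca (smul_left_cancel (k : G) (e.trans k.2.1.symm)),
    fun e => hcb (smul_left_cancel (k : G) (e.trans k.2.2.symm))⟩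

/-- The stabiliser in the kernel has order four. -/
theorem card_kernel_stab (S : Is22 G α) {a b : α} (hab : a ≠ b) (R : Subgroup ↥(K2 G a b)) [R.Normal]
    (hR : Nat.card R = 16) {c : α} (hca : c ≠ a) (hcb : c ≠ b) :
    Nat.card ↥(R ⊓ MulAction.stabilizer ↥(K2 G a b) c) = 4 := by
  classical
  cases nonempty_fintype G
  have := S.fs
  set k : α → Subgroup ↥(K2 G a b) := fun d => R ⊓ MulAction.stabilizer ↥(K2 G a b) d
  show Nat.card ↥(k c) = 4
  -- all these stabilisers are conjugate
  have hconj : ∀ d, d ≠ a → d ≠ b → Nat.card ↥(k d) = Nat.card ↥(k c) := by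
    intro d hda hdb
    obtain ⟨g, rfl⟩ := S.trans20 hab hca hcb hda hdb
    have e : k (g • c) = (k c).map (MulAut.conj g).toMonoidHom := by
      ext t
      rw [Subgroup.mem_map_equiv]
      simp only [k, Subgroup.mem_inf, MulAction.mem_stabilizer_iff, MulAut.conj_symm_apply, mul_smul,
        inv_smul_eq_iff]
      refine and_congr ?_ Iff.rfl
      constructor
      · intro h
        simpa using (inferInstance : R.Normal).conj_mem t h g⁻¹
      · intro h
        have := (inferInstance : R.Normal).conj_mem _ h g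
        simpa [mul_assoc] using this
    rw [e, Subgroup.card_map_of_injective (MulAut.conj g).injective]
  -- the orbit of `c` under `R`
  set B := (Finset.univ : Finset α).filter fun v => ∃ t : ↥R, (t : ↥(K2 G a b)) • c = v
  have horb : B.card * Nat.card ↥(k c) = 16 := by
    have h := MulAction.index_stabilizer (G := ↥R) c
    have e : MulAction.orbit ↥R c = (B : Set α) := by
      ext v; simp [B, MulAction.mem_orbit_iff, Subgroup.smul_def]
    have e2 : MulAction.stabilizer ↥R c = (k c).subgroupOf R := by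
      ext t
      simp [k, Subgroup.mem_subgroupOf, MulAction.mem_stabilizer_iff, Subgroup.smul_def]
    rw [e, Set.ncard_coe_finset] at h
    rw [← h, e2, ← hR]
    have := Subgroup.index_mul_card ((k c).subgroupOf R)
    rwa [Nat.card_congr (Subgroup.subgroupOfEquivOfLe inf_le_left).toEquiv] at this
  -- `K` permutes the orbits, so their size divides 20
  have hdvd : B.card ∣ 20 := by
    obtain ⟨L, hL⟩ : ∃ L : Subgroup ↥(K2 G a b), L = R ⊔ MulAction.stabilizer ↥(K2 G a b) c := ⟨_, rfl⟩
    have h1 : Nat.card L * Nat.card ↥(k c) = 16 * 48 := by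
      rw [hL, ← hR, ← S.card_stab3 hab hca hcb]
      exact card_sup_mul R (MulAction.stabilizer ↥(K2 G a b) c)
    have h2 := Subgroup.index_mul_card L
    rw [S.card_K2 hab] at h2
    have hpos : 0 < Nat.card ↥(k c) := Nat.card_pos
    refine ⟨L.index, ?_⟩
    have : (20 * 16 * 48) * Nat.card ↥(k c) = (B.card * L.index) * (16 * 48) * Nat.card ↥(k c) := by
      calc (20 * 16 * 48) * Nat.card ↥(k c) = 16 * (L.index * Nat.card L) * Nat.card ↥(k c) := by
            rw [h2]
        _ = (B.card * Nat.card ↥(k c)) * L.index * (Nat.card L * Nat.card ↥(k c)) := by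
            rw [horb]; ring
        _ = (B.card * L.index) * (16 * 48) * Nat.card ↥(k c) := by rw [h1]; ring
    have := Nat.eq_of_mul_eq_mul_right hpos this
    omega
  have hpos : 0 < B.card := Finset.card_pos.mpr ⟨c, Finset.mem_filter.mpr ⟨Finset.mem_univ _, 1, one_smul _ c⟩⟩
  have hB : B.card = 1 ∨ B.card = 2 ∨ B.card = 4 := by
    have h16 : B.card ∣ 16 := Dvd.intro _ horb
    have := Nat.le_of_dvd (by norm_num) (Nat.dvd_gcd hdvd h16)
    have hle : B.card ≤ 4 := this
    interval_cases hb : B.card <;> omega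
  have hkc := horb
  rcases hB with e | e | e <;> rw [e] at hkc
  · -- `R` would be trivial
    exfalso
    have hall : ∀ t : ↥R, t = 1 := by
      intro t
      apply Subtype.ext; apply Subtype.ext
      refine eq_of_smul_eq_smul (α := α) fun d => ?_
      show ((t : ↥(K2 G a b)) : G) • d = (1 : G) • d
      rw [one_smul]
      by_cases hda : d = a
      · rw [hda]; exact (t : ↥(K2 G a b)).2.1
      by_cases hdb : d = b
      · rw [hdb]; exact (t : ↥(K2 G a b)).2.2
      have h16 : Nat.card ↥(k d) = 16 := by rw [hconj d hda hdb]; omega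
      have hkd : k d = R := Subgroup.eq_of_le_of_card_ge inf_le_left (by rw [h16, hR])
      have ht : (t : ↥(K2 G a b)) ∈ k d := by rw [hkd]; exact t.2
      exact ht.2
    have : Subsingleton ↥R := ⟨fun u v => (hall u).trans (hall v).symm⟩
    have := (Finite.card_le_one_iff_subsingleton).mpr this
    omega
  · -- an element of `R` would be an involution fixing at least twelve points
    exfalso
    have hk8 : Nat.card ↥(k c) = 8 := by omega
    set U := (Finset.univ : Finset ↥(K2 G a b)).filter fun t => t ∈ R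
    have hU : U.card = 16 := by
      rw [← hR, ← Nat.card_eq_finsetCard]
      exact Nat.card_congr (Equiv.subtypeEquivRight (by simp [U]))
    have hsum : ∑ t ∈ U, (Fix α (t : G)).card = 192 := by
      have e1 : ∀ t ∈ U, (Fix α (t : G)).card = ∑ d : α, if t • d = d then 1 else 0 := fun t _ => by
        rw [← Finset.card_filter]; rfl
      rw [Finset.sum_congr rfl e1, Finset.sum_comm,
        ← Finset.sum_sdiff (Finset.subset_univ ({a, b} : Finset α)), Finset.sum_pair hab,
        Finset.sum_congr rfl (g := fun _ => 8) (s₁ := Finset.univ \ {a, b}) fun d hd => ?_,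
        Finset.sum_const, Finset.card_sdiff_of_subset (Finset.subset_univ _), Finset.card_univ, S.card,
        Finset.card_pair hab]
      · have h16 : ∀ z : α, (z = a ∨ z = b) → (∑ t ∈ U, if t • z = z then 1 else 0) = 16 := by
          intro z hz
          rw [Finset.sum_congr rfl (g := fun _ => 1) fun t _ => if_pos ?_, Finset.sum_const, hU]
          · rfl
          · rcases hz with rfl | rfl
            exacts [t.2.1, t.2.2]
        rw [h16 a (Or.inl rfl), h16 b (Or.inr rfl)]
        rfl
      · obtain ⟨hda, hdb⟩ : d ≠ a ∧ d ≠ b := by simpa using hd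
        rw [← Finset.card_filter, ← hk8, ← hconj d hda hdb, ← Nat.card_eq_finsetCard]
        exact Nat.card_congr (Equiv.subtypeEquivRight fun t => by
          simp [U, k, MulAction.mem_stabilizer_iff])
    obtain ⟨t, ht, htf⟩ : ∃ t ∈ U.erase 1, 11 < (Fix α (t : G)).card := by
      by_contra hcon
      push Not at hcon
      have h1 : (1 : ↥(K2 G a b)) ∈ U := by simp [U]
      rw [← Finset.add_sum_erase _ _ h1, show Fix α ((1 : ↥(K2 G a b)) : G) = Finset.univ by
        ext; simp [mem_fix], Finset.card_univ, S.card] at hsum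
      have := Finset.sum_le_card_nsmul (U.erase 1) _ 11 hcon
      rw [Finset.card_erase_of_mem h1, hU, smul_eq_mul] at this
      omega
    obtain ⟨ht1, htU⟩ := Finset.mem_erase.mp ht
    have htR : t ∈ R := by simpa [U] using htU
    have hsq : (t : G) * t = 1 := by
      refine eq_of_smul_eq_smul (α := α) fun d => ?_
      rw [one_smul]
      by_cases hda : d = a
      · rw [hda, mul_smul, t.2.1, t.2.1]
      by_cases hdb : d = b
      · rw [hdb, mul_smul, t.2.2, t.2.2]
      have hn : ((k d).subgroupOf R).index = 2 := by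
        have := Subgroup.index_mul_card ((k d).subgroupOf R)
        rw [Nat.card_congr (Subgroup.subgroupOfEquivOfLe (show k d ≤ R from inf_le_left)).toEquiv,
          hconj d hda hdb, hk8, hR] at this
        omega
      have hm := Subgroup.sq_mem_of_index_two hn (⟨t, htR⟩ : ↥R)
      rw [Subgroup.mem_subgroupOf, SubgroupClass.coe_pow] at hm
      have hm2 : (t ^ 2) • d = d := hm.2
      rw [pow_two] at hm2
      exact hm2
    have hne : (t : G) ≠ 1 := fun h => ht1 (Subtype.ext h)
    have := S.fix_invol_le hsq hne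
    omega
  · omega

/-- The normal Sylow two-subgroup of a three point stabiliser, with exactly six fixed points. -/
theorem exists_hexad (S : Is22 G α) {a b c : α} (hab : a ≠ b) (hac : a ≠ c) (hbc : b ≠ c) :
    ∃ P : Subgroup G, Nat.card P = 16 ∧ (∀ g ∈ P, g • a = a ∧ g • b = b ∧ g • c = c) ∧
      (∀ P' : Subgroup G, Nat.card P' = 16 → (∀ g ∈ P', g • a = a ∧ g • b = b ∧ g • c = c) → P' = P) ∧
      ∃ B : Finset α, B.card = 6 ∧ ∀ z, z ∈ B ↔ ∀ g ∈ P, g • z = z := by
  classical
  have := S.fs
  obtain ⟨R, ψ, hRn, hR, hker, hsgn⟩ := S.exists_kernel hab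
  set L := MulAction.stabilizer ↥(K2 G a b) c
  have hLc : Nat.card L = 48 := S.card_stab3 hab hac.symm hbc.symm
  have hRc := S.card_kernel_stab hab R hR hac.symm hbc.symm
  -- an element of order three
  have : Fact (Nat.Prime 3) := ⟨by norm_num⟩
  obtain ⟨y0, hy0⟩ := exists_prime_orderOf_dvd_card' (G := L) 3 (by rw [hLc]; norm_num)
  set y : ↥(K2 G a b) := (y0 : ↥(K2 G a b)) with hydef
  have hyL : y ∈ L := y0.2
  have hyo : orderOf y = 3 := by rw [hydef, Subgroup.orderOf_coe, hy0]
  have hyG : orderOf (y : G) = 3 := by rw [Subgroup.orderOf_coe, hyo]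
  have hyR : y ∉ R := fun h => by
    have := orderOf_dvd_natCard (⟨y, h⟩ : R)
    rw [← Subgroup.orderOf_coe, hyo, hR] at this
    norm_num at this
  have hψy : ψ y ≠ 1 := fun h => hyR (hker ▸ (h : y ∈ ψ.ker))
  have hψy3 : ψ y * ψ y * ψ y = 1 := by
    rw [← map_mul, ← map_mul, ← map_one ψ]
    congr 1
    have := orderOf_dvd_iff_pow_eq_one.mp (dvd_of_eq hyo)
    rw [pow_succ, pow_two] at this
    exact this
  -- a unique Sylow two-subgroup
  have : Fact (Nat.Prime 2) := ⟨Nat.prime_two⟩
  have hn1 : Nat.card (Sylow 2 L) = 1 := by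
    refine (card_sylow_two_48 hLc).resolve_right fun h3 => ?_
    obtain ⟨P⟩ := (inferInstance : Nonempty (Sylow 2 L))
    obtain ⟨Q, hQ⟩ : ∃ Q : Sylow 2 L, Q ≠ P := by
      by_contra hc
      push Not at hc
      have : Subsingleton (Sylow 2 L) := ⟨fun u v => (hc u).trans (hc v).symm⟩
      have := (Finite.card_le_one_iff_subsingleton).mpr this
      omega
    set D := (P : Subgroup L) ⊓ Q
    have hP := card_sylow_48 hLc P
    have hQc := card_sylow_48 hLc Q
    have hD16 : Nat.card D ≠ 16 := fun h => hQ <| Sylow.ext <| by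
      have e1 : D = P := Subgroup.eq_of_le_of_card_ge inf_le_left (by omega)
      have e2 : D = Q := Subgroup.eq_of_le_of_card_ge inf_le_right (by omega)
      rw [← e2, e1]
    have hD8 : Nat.card D = 8 := by
      have hd : Nat.card D ∣ 16 := hP ▸ Subgroup.card_dvd_of_le inf_le_left
      have hinj := card_mul_le (P : Subgroup L) (Q : Subgroup L)
      rw [hP, hQc, hLc] at hinj
      have h6 : 6 ≤ Nat.card D := by
        change 16 * 16 ≤ 48 * Nat.card D at hinj
        omega
      obtain ⟨j, hj4, hj⟩ := (Nat.dvd_prime_pow Nat.prime_two (m := 4)).mp (hd.trans (by norm_num))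
      interval_cases j <;> omega
    have hnorm : ∀ T : Subgroup L, Nat.card T = 16 → D ≤ T → T ≤ Subgroup.normalizer (D : Set L) := by
      intro T hT hDT g hg
      have hn : (D.subgroupOf T).Normal := by
        refine Subgroup.normal_of_index_eq_two ?_
        have := Subgroup.index_mul_card (D.subgroupOf T)
        rw [Nat.card_congr (Subgroup.subgroupOfEquivOfLe hDT).toEquiv, hD8, hT] at this
        omega
      exact (Subgroup.normal_subgroupOf_iff_le_normalizer hDT).mp hn hg
    have hN : Subgroup.normalizer (D : Set L) = ⊤ := by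
      refine Subgroup.eq_top_of_card_eq _ ?_
      have h16 : 16 ∣ Nat.card ↥(Subgroup.normalizer (D : Set L)) :=
        hP ▸ Subgroup.card_dvd_of_le (hnorm P hP inf_le_left)
      have hd := Subgroup.card_subgroup_dvd_card (Subgroup.normalizer (D : Set L))
      rw [hLc] at hd ⊢
      have hne : Nat.card ↥(Subgroup.normalizer (D : Set L)) ≠ 16 := by
        intro h
        apply hQ
        apply Sylow.ext
        rw [Subgroup.eq_of_le_of_card_ge (hnorm Q hQc inf_le_right) (by omega),
          Subgroup.eq_of_le_of_card_ge (hnorm P hP inf_le_left) (by omega)]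
      have hj : ∀ j ∈ Nat.divisors 48, 16 ∣ j → j = 16 ∨ j = 48 := by decide +kernel
      exact (hj _ (Nat.mem_divisors.mpr ⟨hd, by norm_num⟩) h16).resolve_left hne
    have hDn : D.Normal := Subgroup.normalizer_eq_top_iff.mp hN
    -- the two-group `R ∩ L` lies in `D`
    set RL := R.subgroupOf L
    have hRLc : Nat.card RL = 4 := by
      rw [← hRc, show RL = (R ⊓ L).subgroupOf L by ext t; simp [RL, Subgroup.mem_subgroupOf]]
      exact Nat.card_congr (Subgroup.subgroupOfEquivOfLe inf_le_right).toEquiv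
    have hRLle : RL ≤ D := by
      have hRLp : IsPGroup 2 RL := IsPGroup.of_card (n := 2) (by rw [hRLc]; norm_num)
      obtain ⟨T, hT⟩ := hRLp.exists_le_sylow
      suffices key : ∀ U : Sylow 2 L, RL ≤ U from le_inf (key P) (key Q)
      intro U t ht
      obtain ⟨g, hg⟩ := MulAction.exists_smul_eq L T U
      rw [← hg, Sylow.coe_subgroup_smul]
      refine ⟨g⁻¹ * t * g⁻¹⁻¹, hT ((inferInstance : RL.Normal).conj_mem t ht g⁻¹), ?_⟩
      simp [mul_assoc]
    set χ := ψ.comp L.subtype
    have hχker : χ.ker = RL := by ext t; simp [χ, RL, Subgroup.mem_subgroupOf, ← hker]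
    have hImg : Nat.card (D.map χ) = 2 := by
      have h1 := Subgroup.index_mul_card ((χ.ker).subgroupOf D)
      rw [Nat.card_congr (Subgroup.subgroupOfEquivOfLe (hχker ▸ hRLle)).toEquiv, hD8, hχker, hRLc] at h1
      have h2 : Nat.card (D.map χ) = ((χ.ker).subgroupOf D).index := by
        rw [show D.map χ = (χ.comp D.subtype).range by rw [MonoidHom.range_comp, Subgroup.range_subtype],
          ← Subgroup.index_ker]
        rfl
      rw [h2, hχker]; omega
    obtain ⟨⟨_, t, htD, rfl⟩, hto⟩ := exists_prime_orderOf_dvd_card' (G := D.map χ) 2 (by rw [hImg])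
    rw [← Subgroup.orderOf_coe] at hto
    set u := ψ (t : ↥(K2 G a b))
    have hto' : orderOf u = 2 := hto
    have hu1 : u ≠ 1 := fun h => by
      rw [h, orderOf_one] at hto'; norm_num at hto'
    have hu2 : u * u = 1 := by
      have := orderOf_dvd_iff_pow_eq_one.mp (dvd_of_eq hto')
      rwa [pow_two] at this
    have hcomm : ψ y * u = u * ψ y := by
      have hm : χ (y0 * t * y0⁻¹) ∈ D.map χ := ⟨_, hDn.conj_mem t htD y0, rfl⟩
      have hsub : ∀ v ∈ D.map χ, v = 1 ∨ v = u := by
        intro v hv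
        by_contra hc
        push Not at hc
        have h3 : ({1, u, v} : Finset (Equiv.Perm (Fin 5))).card = 3 := by
          rw [Finset.card_insert_of_notMem (by simp [Ne.symm hu1, Ne.symm hc.1]),
            Finset.card_pair (Ne.symm hc.2)]
        have hle : ({1, u, v} : Finset (Equiv.Perm (Fin 5))).card ≤ Nat.card (D.map χ) := by
          rw [← Nat.card_eq_finsetCard]
          refine Nat.card_le_card_of_injective (fun w => ⟨w.1, ?_⟩) fun p q e => ?_
          · have := w.2
            simp only [Finset.mem_insert, Finset.mem_singleton] at this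
            rcases this with e | e | e <;> rw [e]
            exacts [one_mem _, ⟨t, htD, rfl⟩, hv]
          · exact Subtype.ext (congrArg (fun z : D.map χ => (z : Equiv.Perm (Fin 5))) e)
        omega
      rcases hsub _ hm with e | e
      · exfalso
        have e' : ψ y * u * (ψ y)⁻¹ = 1 := by simpa [χ, u, hydef] using e
        exact hu1 (conj_eq_one_iff.mp e')
      · have e' : ψ y * u * (ψ y)⁻¹ = u := by simpa [χ, u, hydef] using e
        exact mul_inv_eq_iff_eq_mul.mp e'
    have hc : Commute (ψ y) u := hcomm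
    set g := ψ y * u
    have hg2 : g * g = ψ y * ψ y := by
      calc g * g = ψ y * (u * ψ y) * u := by simp [g, mul_assoc]
        _ = ψ y * ψ y * (u * u) := by rw [← hcomm]; simp only [g, mul_assoc]
        _ = ψ y * ψ y := by rw [hu2, mul_one]
    have hg3 : g * g * g = u := by
      rw [hg2, show ψ y * ψ y * g = ψ y * ψ y * ψ y * u by simp [g, mul_assoc], hψy3, one_mul]
    rcases five_no_six g (by simp [g, u, hsgn]) (by rw [hg3, hu2]) with e | e
    · rw [hg2] at e
      exact hψy (by rw [← hψy3, e, one_mul])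
    · exact hu1 (hg3 ▸ e)
  have hsub : Subsingleton (Sylow 2 L) := (Nat.card_eq_one_iff_unique.mp hn1).1
  obtain ⟨P0⟩ := (inferInstance : Nonempty (Sylow 2 L))
  have hP0n : (P0 : Subgroup L).Normal := P0.normal_of_subsingleton
  have hP0c := card_sylow_48 hLc P0
  set i : L →* G := (K2 G a b).subtype.comp L.subtype
  have hi : Function.Injective i := fun u v e => Subtype.ext (Subtype.ext e)
  refine ⟨(P0 : Subgroup L).map i, by rw [Subgroup.card_map_of_injective hi, hP0c], ?_, ?_, ?_⟩
  · rintro _ ⟨t, -, rfl⟩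
    exact ⟨(t : ↥(K2 G a b)).2.1, (t : ↥(K2 G a b)).2.2, t.2⟩
  · intro P' hP' hfix
    have hle : P' ≤ i.range := fun g hg => by
      obtain ⟨h1, h2, h3⟩ := hfix g hg
      exact ⟨⟨⟨g, h1, h2⟩, h3⟩, rfl⟩
    have hmap : (P'.comap i).map i = P' := Subgroup.map_comap_eq_self hle
    have hc : Nat.card (P'.comap i) = 16 := by
      rw [Nat.card_congr (Subgroup.equivMapOfInjective (P'.comap i) i hi).toEquiv, hmap, hP']
    obtain ⟨T, hT⟩ := (IsPGroup.of_card (p := 2) (n := 4) (G := ↥(P'.comap i)) (by rw [hc]; norm_num)).exists_le_sylow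
    rw [Subsingleton.elim T P0] at hT
    rw [← hmap, Subgroup.eq_of_le_of_card_ge hT (by rw [hc, hP0c])]
  -- the fixed points
  set B := (Finset.univ : Finset α).filter fun v => ∃ t : ↥R, (t : ↥(K2 G a b)) • c = v
  have hBm : ∀ v, v ∈ B ↔ ∃ t ∈ R, (t : ↥(K2 G a b)) • c = v := fun v => by simp [B]
  have hBc : B.card = 4 := by
    have h := MulAction.index_stabilizer (G := ↥R) c
    have e : MulAction.orbit ↥R c = (B : Set α) := by
      ext v; simp [B, MulAction.mem_orbit_iff, Subgroup.smul_def]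
    have e2 : MulAction.stabilizer ↥R c = (R ⊓ L).subgroupOf R := by
      ext t
      simp [L, Subgroup.mem_subgroupOf, MulAction.mem_stabilizer_iff, Subgroup.smul_def]
    rw [e, Set.ncard_coe_finset, e2] at h
    have := Subgroup.index_mul_card ((R ⊓ L).subgroupOf R)
    rw [Nat.card_congr (Subgroup.subgroupOfEquivOfLe inf_le_left).toEquiv, hRc, hR, h] at this
    omega
  have hBL : ∀ g : ↥(K2 G a b), g ∈ L → ∀ v ∈ B, g • v ∈ B := by
    intro g hg v hv
    obtain ⟨t, ht, rfl⟩ := (hBm v).mp hv
    exact (hBm _).mpr ⟨g * t * g⁻¹, hRn.conj_mem t ht g, by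
      rw [mul_smul, inv_smul_eq_iff.mpr (show g • c = c from hg).symm, mul_smul]⟩
  have hcB : c ∈ B := (hBm c).mpr ⟨1, one_mem R, one_smul _ c⟩
  have hBoff : ∀ v ∈ B, v ≠ a ∧ v ≠ b := by
    intro v hv
    obtain ⟨t, -, rfl⟩ := (hBm v).mp hv
    exact ne_smul t hac.symm hbc.symm
  obtain ⟨-, -, hy3⟩ := S.fix_lt (by norm_num) hyG
  have hyfix := S.fix_outside hab hyG y.2
  have hcfix : ∀ v ∈ B, (y : G) • v = v → v = c := by
    intro v hv hyv
    by_contra hne
    have hBF := mod_fix (α := α) (by norm_num : Nat.Prime 3) hy3 B (fun w hw => hBL y hyL w hw)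
    have hsub2 : ({c, v} : Finset α) ⊆ B ∩ Fix α (y : G) := by
      intro w hw
      rcases Finset.mem_insert.mp hw with rfl | hw
      · exact Finset.mem_inter.mpr ⟨hcB, mem_fix.mpr hyL⟩
      · rw [Finset.mem_singleton.mp hw]; exact Finset.mem_inter.mpr ⟨hv, mem_fix.mpr hyv⟩
    have hsub3 : B ∩ Fix α (y : G) ⊆ Fix α (y : G) \ {a, b} := by
      intro w hw
      obtain ⟨h1, h2⟩ := Finset.mem_inter.mp hw
      obtain ⟨e1, e2⟩ := hBoff w h1
      exact Finset.mem_sdiff.mpr ⟨h2, by simp [e1, e2]⟩
    have h1 := Finset.card_le_card hsub2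
    have h2 := Finset.card_le_card hsub3
    rw [Finset.card_pair (Ne.symm hne)] at h1
    rw [hyfix] at h2
    rw [hBc] at hBF
    omega
  have hPfix : ∀ g : L, g ∈ P0 → ∀ v ∈ B, (g : ↥(K2 G a b)) • v = v := by
    set B' := B.erase c
    set Fp := B'.filter fun v => ∀ g : L, g ∈ P0 → (g : ↥(K2 G a b)) • v = v
    suffices hFp : Fp = B' by
      intro g hg v hv
      by_cases hvc : v = c
      · rw [hvc]; exact g.2
      have : v ∈ Fp := hFp ▸ Finset.mem_erase.mpr ⟨hvc, hv⟩
      exact (Finset.mem_filter.mp this).2 g hg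
    have hB'L : ∀ g : ↥(K2 G a b), g ∈ L → ∀ v ∈ B', g • v ∈ B' := by
      intro g hg v hv
      obtain ⟨h1, h2⟩ := Finset.mem_erase.mp hv
      exact Finset.mem_erase.mpr ⟨fun e => h1 (smul_left_cancel g (e.trans (show c = g • c from hg.symm))),
        hBL g hg v h2⟩
    have hB'c : B'.card = 3 := by rw [Finset.card_erase_of_mem hcB, hBc]
    let _ : MulAction ↥(P0 : Subgroup L) ↥B' :=
      { smul := fun g v => ⟨((g : L) : ↥(K2 G a b)) • (v : α), hB'L _ (g : L).2 v v.2⟩
        one_smul := fun v => Subtype.ext (one_smul _ (v : α))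
        mul_smul := fun g h v => Subtype.ext (mul_smul _ _ (v : α)) }
    obtain ⟨⟨v, hvB⟩, hv⟩ := P0.2.nonempty_fixed_point_of_prime_not_dvd_card (↥B')
      (by rw [Nat.card_eq_finsetCard, hB'c]; norm_num)
    have hvFp : v ∈ Fp := Finset.mem_filter.mpr ⟨hvB, fun g hg => congrArg Subtype.val (hv ⟨g, hg⟩)⟩
    have hyFp : ∀ w ∈ Fp, (y : G) • w ∈ Fp := by
      intro w hw
      obtain ⟨h1, h2⟩ := Finset.mem_filter.mp hw
      refine Finset.mem_filter.mpr ⟨hB'L y hyL w h1, fun g hg => ?_⟩
      have := h2 (y0⁻¹ * g * y0⁻¹⁻¹) (hP0n.conj_mem g hg y0⁻¹)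
      simp only [Subgroup.coe_mul, Subgroup.coe_inv, inv_inv, mul_smul, inv_smul_eq_iff] at this
      exact this
    have hm := mod_fix (α := α) (by norm_num : Nat.Prime 3) hy3 Fp hyFp
    have h0 : Fp ∩ Fix α (y : G) = ∅ := by
      refine Finset.eq_empty_of_forall_notMem fun w hw => ?_
      obtain ⟨h1, h2⟩ := Finset.mem_inter.mp hw
      obtain ⟨hwc, hwB⟩ := Finset.mem_erase.mp (Finset.mem_filter.mp h1).1
      exact hwc (hcfix w hwB (mem_fix.mp h2))
    rw [h0, Finset.card_empty] at hm
    have hpos : 0 < Fp.card := Finset.card_pos.mpr ⟨v, hvFp⟩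
    have hle := Finset.card_le_card (Finset.filter_subset _ B' : Fp ⊆ B')
    exact Finset.eq_of_subset_of_card_le (Finset.filter_subset _ _) (by rw [hB'c]; omega)
  have hout : ∀ v, v ≠ a → v ≠ b → v ∉ B → ∃ g : L, g ∈ P0 ∧ (g : ↥(K2 G a b)) • v ≠ v := by
    intro v hva hvb hvB
    by_contra hcon
    push Not at hcon
    -- the images fix two of the five points
    obtain ⟨M, hM⟩ : ∃ M : Subgroup ↥(K2 G a b), M = R ⊔ L := ⟨_, rfl⟩
    have hMc : Nat.card M = 192 := by
      have h := card_sup_mul R L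
      rw [← hM, hR, hLc, hRc] at h
      omega
    have hMi : M.index = 5 := by
      have := Subgroup.index_mul_card M
      rw [S.card_K2 hab, hMc] at this
      omega
    obtain ⟨ψ', e, hker', hsgn', heq⟩ := (S.is960 hab).exists_hom M hMi
    have hcore : M.normalCore = R := by
      refine (Subgroup.eq_of_le_of_card_ge (Subgroup.normal_le_normalCore.mpr (hM ▸ le_sup_left)) ?_).symm
      rw [((S.is960 hab).kernel M hMi).1, hR]
    obtain ⟨k, rfl⟩ := S.trans20 hab hac.symm hbc.symm hva hvb
    have hkM : k ∉ M := by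
      intro hk
      rw [hM, Subgroup.mem_sup_of_normal_left] at hk
      obtain ⟨r, hr, l, hl, rfl⟩ := hk
      exact hvB ((hBm _).mpr ⟨r, hr, by rw [mul_smul, show l • c = c from hl]⟩)
    set χ := ψ'.comp L.subtype
    have himg : ∀ u ∈ (P0 : Subgroup L).map χ,
        u (e ((1 : ↥(K2 G a b)) : _ ⧸ M)) = e ((1 : ↥(K2 G a b)) : _ ⧸ M) ∧
        u (e ((k : ↥(K2 G a b)) : _ ⧸ M)) = e ((k : ↥(K2 G a b)) : _ ⧸ M) := by
      rintro _ ⟨g, hg, rfl⟩
      have hgM : (g : ↥(K2 G a b)) ∈ M := hM ▸ Subgroup.mem_sup_right g.2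
      constructor
      · show ψ' g (e _) = _
        rw [heq, MulAction.Quotient.smul_coe, smul_eq_mul, mul_one]
        congr 1
        exact QuotientGroup.eq.mpr (by simpa using M.inv_mem hgM)
      · show ψ' g (e _) = _
        rw [heq, MulAction.Quotient.smul_coe, smul_eq_mul]
        congr 1
        refine QuotientGroup.eq.mpr (hM ▸ Subgroup.mem_sup_right ?_)
        show (((g : ↥(K2 G a b)) * k)⁻¹ * k) • c = c
        rw [mul_smul, inv_smul_eq_iff, mul_smul, hcon g hg]
    have hdiff : e ((1 : ↥(K2 G a b)) : _ ⧸ M) ≠ e ((k : ↥(K2 G a b)) : _ ⧸ M) := fun h => by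
      have := QuotientGroup.eq.mp (e.injective h)
      simp only [inv_one, one_mul] at this
      exact hkM this
    have htriv : ∀ u ∈ (P0 : Subgroup L).map χ, u * u = 1 → u = 1 := fun u hu h2 => by
      obtain ⟨h1, h3⟩ := himg u hu
      obtain ⟨g, -, rfl⟩ := hu
      exact five_two_fix _ _ hdiff _ h2 h1 h3 (hsgn' g)
    have hcard : ¬ 2 ∣ Nat.card ((P0 : Subgroup L).map χ) := by
      intro hd
      obtain ⟨⟨u, hu⟩, huo⟩ := exists_prime_orderOf_dvd_card' (G := (P0 : Subgroup L).map χ) 2 hd
      rw [← Subgroup.orderOf_coe] at huo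
      have h2 := orderOf_dvd_iff_pow_eq_one.mp (dvd_of_eq huo)
      rw [pow_two] at h2
      have huo' : orderOf u = 2 := huo
      rw [htriv u hu h2, orderOf_one] at huo'
      norm_num at huo'
    have hall : ∀ g ∈ (P0 : Subgroup L), χ g = 1 := by
      intro g hg
      have hd : orderOf (⟨χ g, g, hg, rfl⟩ : (P0 : Subgroup L).map χ) ∣ 16 := by
        rw [← Subgroup.orderOf_coe]
        refine (orderOf_map_dvd χ g).trans ?_
        rw [← hP0c, ← Subgroup.orderOf_mk g hg]
        exact orderOf_dvd_natCard _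
      have hd2 : orderOf (⟨χ g, g, hg, rfl⟩ : (P0 : Subgroup L).map χ) ∣ Nat.card ((P0 : Subgroup L).map χ) :=
        orderOf_dvd_natCard _
      have hcop : Nat.Coprime (Nat.card ((P0 : Subgroup L).map χ)) 16 :=
        Nat.Coprime.pow_right 4 ((Nat.coprime_comm.mp (Nat.prime_two.coprime_iff_not_dvd.mpr hcard)))
      have := Nat.eq_one_of_dvd_coprimes hcop hd2 hd
      rw [← Subgroup.orderOf_coe] at this
      exact orderOf_eq_one_iff.mp this
    have hle : (P0 : Subgroup L).map L.subtype ≤ R ⊓ L := by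
      rintro _ ⟨g, hg, rfl⟩
      exact ⟨hcore ▸ hker' ▸ (hall g hg : (g : ↥(K2 G a b)) ∈ ψ'.ker), g.2⟩
    have := Subgroup.card_le_card_group ((P0 : Subgroup L).map L.subtype)
    have h1 := Nat.le_of_dvd Nat.card_pos (Subgroup.card_dvd_of_le hle)
    rw [Subgroup.card_map_of_injective L.subtype_injective, hP0c, hRc] at h1
    omega
  refine ⟨insert a (insert b B), ?_, fun z => ?_⟩
  · rw [Finset.card_insert_of_notMem, Finset.card_insert_of_notMem, hBc]
    · exact fun h => (hBoff b h).2 rfl
    · simp only [Finset.mem_insert, not_or]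
      exact ⟨hab, fun h => (hBoff a h).1 rfl⟩
  · simp only [Finset.mem_insert]
    constructor
    · rintro (rfl | rfl | hz) _ ⟨t, ht, rfl⟩
      · exact (t : ↥(K2 G z b)).2.1
      · exact (t : ↥(K2 G a z)).2.2
      · exact hPfix t ht z hz
    · intro h
      by_contra hz
      push Not at hz
      obtain ⟨g, hg, hne⟩ := hout z hz.1 hz.2.1 hz.2.2
      exact hne (h _ ⟨g, hg, rfl⟩)

end Is22

end CfsgLib.KGroups.MathieuIdent
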