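import Cfsg.Agent.Lib.KGroups.MathieuIdent.Tools
import Cfsg.Agent.Lib.Involution.BrauerFowler

/-!
# Groups of order 960 with small Sylow 5-normaliser

If the normaliser of a subgroup of order 5 has order 10 and no element of order 15 exists, the group
has a normal subgroup of order 16 with quotient the alternating group of degree 5.
-/

set_option autoImplicit false
open scoped Pointwise

namespace CfsgLib.KGroups.MathieuIdent

/-- The hypotheses. -/
structure Is960 (K : Type*) [Group K] : Prop where
  card : Nat.card K = 960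
  norm_five : ∀ x : K, orderOf x = 5 →
    Nat.card ↥(Subgroup.normalizer ((Subgroup.zpowers x : Subgroup K) : Set K)) = 10
  norm_three : ∀ y : K, orderOf y = 3 →
    ¬ 5 ∣ Nat.card ↥(Subgroup.normalizer ((Subgroup.zpowers y : Subgroup K) : Set K))

variable {K : Type*} [Group K] [Finite K]

theorem card_orbits_mod_four {P X : Type*} [Group P] [Finite P] [MulAction P X] [Finite X] (x0 : X)
    (h0 : ∀ g : P, g • x0 = x0) (h : ∀ x, x ≠ x0 → 4 ∣ (MulAction.stabilizer P x).index) :
    Nat.card X % 4 = 1 := by
  classical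
  cases nonempty_fintype X
  let Ω := MulAction.orbitRel.Quotient P X
  have e : Nat.card X = ∑ ω : Ω, Nat.card (MulAction.orbitRel.Quotient.orbit ω) := by
    rw [Nat.card_congr (MulAction.selfEquivSigmaOrbits' P X), Nat.card_sigma]
  have key : ∀ x : X, Nat.card (MulAction.orbitRel.Quotient.orbit (Quotient.mk'' x : Ω))
      = (MulAction.stabilizer P x).index := fun x => by
    rw [MulAction.index_stabilizer, MulAction.orbitRel.Quotient.orbit_mk, Nat.card_coe_set_eq]
  have hz : ((Nat.card X : ℕ) : ZMod 4) = 1 := by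
    rw [e, Nat.cast_sum, Finset.sum_eq_single (Quotient.mk'' x0 : Ω)]
    · rw [key, show MulAction.stabilizer P x0 = ⊤ from eq_top_iff.mpr fun g _ => h0 g,
        Subgroup.index_top, Nat.cast_one]
    · intro ω _ hω
      induction ω using Quotient.inductionOn' with
      | h x =>
        rw [key, ZMod.natCast_eq_zero_iff]
        exact h x fun hx => hω (by rw [hx])
    · simp
  have := (ZMod.natCast_eq_natCast_iff' (Nat.card X) 1 4).mp (by simpa using hz)
  simpa using this

/-- A subgroup containing all conjugates of an element has index dividing the normaliser of the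
Sylow subgroup of prime order it generates. -/
theorem index_dvd_normalizer {g : K} {p : ℕ} (hp : p.Prime) (hg : orderOf g = p)
    (hsq : ¬ p ^ 2 ∣ Nat.card K) (M : Subgroup K) (hM : ∀ h : K, orderOf h = p → h ∈ M) :
    M.index ∣ Nat.card ↥(Subgroup.normalizer ((Subgroup.zpowers g : Subgroup K) : Set K)) := by
  have : Fact p.Prime := ⟨hp⟩
  set N := Subgroup.normalizer ((Subgroup.zpowers g : Subgroup K) : Set K)
  have htr : ∀ k : K, ∃ n ∈ N, (n : K) • ((1 : K) : K ⧸ M) = (k : K ⧸ M) := by
    intro k
    set g' := k⁻¹ * g * k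
    have hg' : orderOf g' = p := by
      rw [← hg, show g' = MulAut.conj k⁻¹ g by simp [g'], (MulAut.conj k⁻¹).orderOf_eq]
    have hsylM : ∀ h : K, ∀ ho : orderOf h = p, ∃ P : Sylow p M,
        (P : Subgroup M).map M.subtype = Subgroup.zpowers h := by
      intro h ho
      have hho : orderOf (⟨h, hM h ho⟩ : M) = p := by rw [← Subgroup.orderOf_coe]; exact ho
      have hpg : IsPGroup p (Subgroup.zpowers (⟨h, hM h ho⟩ : M)) :=
        IsPGroup.of_card (n := 1) (by rw [Nat.card_zpowers, hho, pow_one])
      obtain ⟨P, hP⟩ := hpg.exists_le_sylow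
      refine ⟨P, ?_⟩
      have hPc : Nat.card (P : Subgroup M) = p := by
        rw [P.card_eq_multiplicity]
        have h1 : p ∣ Nat.card M := hho ▸ orderOf_dvd_natCard _
        have hv : (Nat.card M).factorization p = 1 := by
          refine le_antisymm ?_ (hp.factorization_pos_of_dvd Nat.card_pos.ne' h1)
          by_contra hc
          exact hsq (((hp.pow_dvd_iff_le_factorization Nat.card_pos.ne').mpr (by omega)).trans
            (Subgroup.card_subgroup_dvd_card M))
        rw [hv, pow_one]
      rw [← Subgroup.eq_of_le_of_card_ge hP (by rw [hPc, Nat.card_zpowers, hho]), MonoidHom.map_zpowers]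
      rfl
    obtain ⟨P1, hP1⟩ := hsylM g hg
    obtain ⟨P2, hP2⟩ := hsylM g' hg'
    obtain ⟨m, hm⟩ := MulAction.exists_smul_eq M P2 P1
    refine ⟨k * (m : K)⁻¹, ?_, ?_⟩
    · have e : (Subgroup.zpowers g').map (MulAut.conj (m : K)).toMonoidHom = Subgroup.zpowers g := by
        rw [← hP1, ← hP2, ← hm, Sylow.coe_subgroup_smul, Subgroup.pointwise_smul_def, Subgroup.map_map]
        erw [Subgroup.map_map]
        rfl
      have hn : (m : K) * k⁻¹ ∈ N := by
        apply mem_normalizer_of_map
        rw [MonoidHom.map_zpowers]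
        rw [MonoidHom.map_zpowers] at e
        refine Eq.trans ?_ e
        simp [g', mul_assoc]
      simpa using N.inv_mem hn
    · rw [MulAction.Quotient.smul_coe, smul_eq_mul, mul_one]
      exact QuotientGroup.eq.mpr (by simp)
  have horb : MulAction.orbit ↥N ((1 : K) : K ⧸ M) = Set.univ := by
    refine Set.eq_univ_iff_forall.mpr fun q => ?_
    induction q using QuotientGroup.induction_on with
    | H k =>
      obtain ⟨n, hn, e⟩ := htr k
      exact ⟨⟨n, hn⟩, e⟩
  have h := MulAction.index_stabilizer (G := ↥N) ((1 : K) : K ⧸ M)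
  rw [horb, Set.ncard_univ, ← Subgroup.index_eq_card] at h
  rw [← h]
  exact Subgroup.index_dvd_card _

omit [Finite K] in
theorem cent_le_norm (x : K) :
    Subgroup.centralizer ({x} : Set K) ≤ Subgroup.normalizer ((Subgroup.zpowers x : Subgroup K) : Set K) := by
  intro c hc
  refine mem_normalizer_of_map ?_
  rw [MonoidHom.map_zpowers]
  congr 1
  show c * x * c⁻¹ = x
  rw [Subgroup.mem_centralizer_singleton_iff.mp hc, mul_inv_cancel_right]

namespace Is960

theorem not_sq (hK : Is960 K) : ¬ 5 ^ 2 ∣ Nat.card K ∧ ¬ 3 ^ 2 ∣ Nat.card K := by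
  rw [hK.card]; norm_num

theorem exists_five_el (hK : Is960 K) : ∃ x : K, orderOf x = 5 := by
  have : Fact (Nat.Prime 5) := ⟨by norm_num⟩
  exact exists_prime_orderOf_dvd_card' 5 (by rw [hK.card]; norm_num)

theorem index_le_two (hK : Is960 K) (M : Subgroup K) (hM : ∀ h : K, orderOf h = 5 → h ∈ M) :
    M.index ≤ 2 := by
  obtain ⟨x, hx⟩ := hK.exists_five_el
  have h1 := index_dvd_normalizer (by norm_num) hx hK.not_sq.1 M hM
  rw [hK.norm_five x hx] at h1
  have h2 : 5 ∣ Nat.card M := by
    have := orderOf_dvd_natCard (⟨x, hM x hx⟩ : M)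
    rwa [← Subgroup.orderOf_coe, hx] at this
  have h3 := Subgroup.index_mul_card M
  rw [hK.card] at h3
  have h4 : ¬ 5 ∣ M.index := fun h5 => by
    have := Nat.mul_dvd_mul h5 h2
    rw [h3] at this
    norm_num at this
  have := Nat.le_of_dvd (by norm_num) h1
  interval_cases M.index <;> omega

/-- All elements of prime order `p` lie in a normal subgroup of index prime to `p`. -/
theorem mem_of_normal (M : Subgroup K) [M.Normal] {p : ℕ} (hp : p.Prime) (hi : ¬ p ∣ M.index)
    (h : K) (ho : orderOf h = p) : h ∈ M := by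
  rw [← QuotientGroup.eq_one_iff, ← orderOf_eq_one_iff]
  have h1 : orderOf ((h : K ⧸ M)) ∣ p := ho ▸ orderOf_map_dvd (QuotientGroup.mk' M) h
  rcases (Nat.dvd_prime hp).mp h1 with e | e
  · exact e
  · exact absurd (e ▸ Subgroup.index_eq_card M ▸ orderOf_dvd_natCard _) hi

theorem two_normal (hK : Is960 K) (M : Subgroup K) [M.Normal] {i : ℕ} (hM : Nat.card M = 2 ^ i) :
    2 ^ i % 5 = 1 ∨ (2 ^ i % 5 = 2) := by
  classical
  obtain ⟨x, hx⟩ := hK.exists_five_el
  have : Fact (Nat.Prime 5) := ⟨by norm_num⟩
  let _ : MulAction (Subgroup.zpowers x) M :=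
    MulAction.compHom M ((MulAut.conjNormal (H := M)).comp (Subgroup.zpowers x).subtype)
  have hp : IsPGroup 5 (Subgroup.zpowers x) :=
    IsPGroup.of_card (n := 1) (by rw [Nat.card_zpowers, hx, pow_one])
  have hmod := hp.card_modEq_card_fixedPoints M
  rw [hM, Nat.ModEq] at hmod
  set N := Subgroup.normalizer ((Subgroup.zpowers x : Subgroup K) : Set K)
  have hfix : MulAction.fixedPoints (Subgroup.zpowers x) M
      = ((Subgroup.centralizer ({x} : Set K)).subgroupOf M : Set M) := by
    ext m
    simp only [MulAction.mem_fixedPoints, SetLike.mem_coe, Subgroup.mem_subgroupOf,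
      Subgroup.mem_centralizer_singleton_iff]
    have hs : ∀ g : Subgroup.zpowers x, ((g • m : M) : K) = (g : K) * m * (g : K)⁻¹ := fun g => rfl
    constructor
    · intro h
      have := congrArg (Subtype.val) (h ⟨x, Subgroup.mem_zpowers x⟩)
      rw [hs] at this
      exact (mul_inv_eq_iff_eq_mul.mp this).symm
    · intro h g
      apply Subtype.ext
      rw [hs]
      obtain ⟨k, hk⟩ := Subgroup.mem_zpowers_iff.mp g.2
      have hc : Commute (m : K) (g : K) := hk ▸ (show Commute (m : K) x from h).zpow_right k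
      rw [← hc.eq, mul_inv_cancel_right]
  rw [hfix] at hmod
  change _ = Nat.card ((Subgroup.centralizer ({x} : Set K)).subgroupOf M) % 5 at hmod
  set C := (Subgroup.centralizer ({x} : Set K)).subgroupOf M
  have h1 : Nat.card C ∣ 2 ^ i := hM ▸ Subgroup.card_subgroup_dvd_card C
  have h2 : Nat.card C ∣ 10 := by
    rw [← hK.norm_five x hx]
    let f : C →* N :=
      { toFun := fun c => ⟨((c : M) : K), by
          rw [Subgroup.mem_normalizer_iff]
          intro z
          have hc : ((c : M) : K) * x = x * ((c : M) : K) :=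
            Subgroup.mem_centralizer_singleton_iff.mp c.2
          have hz : ∀ d : K, Commute d x → ∀ w ∈ Subgroup.zpowers x, d * w * d⁻¹ = w := by
            intro d hd w hw
            obtain ⟨k, rfl⟩ := Subgroup.mem_zpowers_iff.mp hw
            rw [(hd.zpow_right k).eq, mul_inv_cancel_right]
          constructor
          · intro hzm; rwa [hz _ hc z hzm]
          · intro hzm
            have := hz _ (Commute.inv_left hc) _ hzm
            rw [inv_inv] at this
            rw [show z = ((c : M) : K)⁻¹ * (((c : M) : K) * z * ((c : M) : K)⁻¹) * ((c : M) : K) by group,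
              this]
            exact hzm⟩
        map_one' := rfl
        map_mul' := fun _ _ => rfl }
    refine Subgroup.card_dvd_of_injective f fun a b e => ?_
    exact Subtype.ext (Subtype.ext (congrArg (fun z : N => (z : K)) e))
  obtain ⟨j, -, hj⟩ := (Nat.dvd_prime_pow Nat.prime_two).mp h1
  rw [hj] at h2 hmod
  have : j ≤ 1 := by
    by_contra hc
    have : 2 ^ 2 ∣ 10 := (pow_dvd_pow 2 (by omega)).trans h2
    norm_num at this
  interval_cases j
  · exact Or.inl hmod
  · exact Or.inr hmod

theorem no_quot_thirty (hK : Is960 K) (R : Subgroup K) [R.Normal] (hR : R.index = 30) : False := by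
  classical
  have hQ : Nat.card (K ⧸ R) = 30 := by rw [← Subgroup.index_eq_card, hR]
  obtain ⟨H, hH⟩ := CfsgLib.Involution.BrauerFowler.exists_index_two_of_two_odd (G := K ⧸ R) (by omega)
  have : H.Normal := Subgroup.normal_of_index_eq_two hH
  have hHc : Nat.card H = 15 := by
    have := Subgroup.index_mul_card H
    rw [hH, hQ] at this; omega
  have : Fact (Nat.Prime 5) := ⟨by norm_num⟩
  obtain ⟨S⟩ := (inferInstance : Nonempty (Sylow 5 H))
  have hn : Nat.card (Sylow 5 H) = 1 := by
    have h1 := card_sylow_modEq_one 5 H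
    have h2 : Nat.card (Sylow 5 H) ∣ 15 := hHc ▸ (S.card_dvd_index.trans S.index_dvd_card)
    rw [Nat.ModEq] at h1
    have := Nat.le_of_dvd (by norm_num) h2
    interval_cases Nat.card (Sylow 5 H) <;> omega
  have hsub : Subsingleton (Sylow 5 H) := (Nat.card_eq_one_iff_unique.mp hn).1
  set M := ((S : Subgroup H).map H.subtype).comap (QuotientGroup.mk' R)
  have hM : ∀ h : K, orderOf h = 5 → h ∈ M := by
    intro h ho
    have hh : (QuotientGroup.mk' R h) ∈ H := by
      rw [← QuotientGroup.eq_one_iff, ← orderOf_eq_one_iff]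
      have h1 : orderOf (((QuotientGroup.mk' R h : K ⧸ R) : (K ⧸ R) ⧸ H)) ∣ 5 :=
        ho ▸ orderOf_map_dvd ((QuotientGroup.mk' H).comp (QuotientGroup.mk' R)) h
      rcases (Nat.dvd_prime (by norm_num)).mp h1 with e | e
      · exact e
      · have := orderOf_dvd_natCard (((QuotientGroup.mk' R h : K ⧸ R) : (K ⧸ R) ⧸ H))
        rw [e, ← Subgroup.index_eq_card, hH] at this
        norm_num at this
    refine ⟨⟨_, hh⟩, ?_, rfl⟩
    have hp : IsPGroup 5 (Subgroup.zpowers (⟨_, hh⟩ : H)) := by
      have h1 : orderOf (⟨_, hh⟩ : H) ∣ 5 := by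
        rw [← Subgroup.orderOf_coe]; exact ho ▸ orderOf_map_dvd (QuotientGroup.mk' R) h
      rcases (Nat.dvd_prime (by norm_num)).mp h1 with e | e
      · exact IsPGroup.of_card (n := 0) (by rw [Nat.card_zpowers, e, pow_zero])
      · exact IsPGroup.of_card (n := 1) (by rw [Nat.card_zpowers, e, pow_one])
    obtain ⟨T, hT⟩ := hp.exists_le_sylow
    exact (Subsingleton.elim T S) ▸ hT (Subgroup.mem_zpowers _)
  have h1 := hK.index_le_two M hM
  have h2 : M.index = ((S : Subgroup H).map H.subtype).index :=
    Subgroup.index_comap_of_surjective _ (QuotientGroup.mk'_surjective R)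
  have h3 := Subgroup.index_mul_card ((S : Subgroup H).map H.subtype)
  rw [Subgroup.card_subtype, hQ] at h3
  have h4 : Nat.card (S : Subgroup H) = 5 := by
    obtain ⟨k, hk⟩ := S.2.exists_card_eq
    have h5 : 5 ∣ Nat.card (S : Subgroup H) := S.dvd_card_of_dvd_card (by rw [hHc]; norm_num)
    have h6 := Subgroup.card_subgroup_dvd_card (S : Subgroup H)
    rw [hHc, hk] at h6
    rcases k with - | - | k
    · rw [hk] at h5; norm_num at h5
    · simpa using hk
    · have := (pow_dvd_pow 5 (show 2 ≤ k + 1 + 1 by omega)).trans h6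
      norm_num at this
  rw [h4] at h3
  omega

theorem card_ker_add (hK : Is960 K) {X : Type*} [Finite X] [MulAction K X]
    [MulAction.IsPretransitive K X] [Nonempty X] :
    Nat.card (MulAction.toPermHom K X).range * Nat.card (MulAction.toPermHom K X).ker = 960 ∧
      Nat.card X ∣ Nat.card (MulAction.toPermHom K X).range ∧
      Nat.card (MulAction.toPermHom K X).range ∣ (Nat.card X).factorial := by
  set φ := MulAction.toPermHom K X
  refine ⟨?_, ?_, ?_⟩
  · rw [← hK.card, ← Subgroup.index_mul_card φ.ker, Subgroup.index_ker]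
  · obtain ⟨x⟩ := (inferInstance : Nonempty X)
    have : (MulAction.orbit φ.range x).ncard = Nat.card X := by
        rw [show MulAction.orbit φ.range x = Set.univ from Set.eq_univ_iff_forall.mpr fun y => by
        obtain ⟨g, hg⟩ := MulAction.exists_smul_eq K x y
        exact ⟨⟨φ g, g, rfl⟩, hg⟩, Set.ncard_univ]
    rw [← this, ← MulAction.index_stabilizer]
    exact Subgroup.index_dvd_card _
  · rw [← Nat.card_perm]
    exact Subgroup.card_subgroup_dvd_card _

theorem no_trans_three (hK : Is960 K) {X : Type*} [Finite X] [MulAction K X]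
    [MulAction.IsPretransitive K X] (hX : Nat.card X = 3) : False := by
  have : Nonempty X := (Nat.card_pos_iff.mp (by omega)).1
  obtain ⟨h1, h2, h3⟩ := hK.card_ker_add (X := X)
  rw [hX] at h2 h3
  rw [show Nat.factorial 3 = 6 from rfl] at h3
  set r := Nat.card (MulAction.toPermHom K X).range
  set R := (MulAction.toPermHom K X).ker
  have hidx : R.index = r := Subgroup.index_ker _
  have h5 : ¬ 5 ∣ R.index := by
    rw [hidx]; intro h; have := h.trans h3; norm_num at this
  have := hK.index_le_two R fun h ho => mem_of_normal R (by norm_num) h5 h ho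
  rw [hidx] at this
  have := Nat.le_of_dvd (Nat.card_pos) h2
  omega

/-- There is a subgroup of index five. -/
theorem exists_index_five (hK : Is960 K) : ∃ M : Subgroup K, M.index = 5 := by
  classical
  have : Fact (Nat.Prime 2) := ⟨Nat.prime_two⟩
  obtain ⟨P⟩ := (inferInstance : Nonempty (Sylow 2 K))
  have hPc : Nat.card (P : Subgroup K) = 64 := by
    obtain ⟨k, hk⟩ := P.2.exists_card_eq
    have h1 : 2 ^ k ∣ 960 := hk ▸ hK.card ▸ Subgroup.card_subgroup_dvd_card _
    have h2 : ¬ 2 ∣ (P : Subgroup K).index := P.not_dvd_index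
    have h3 := Subgroup.index_mul_card (P : Subgroup K)
    rw [hK.card, hk] at h3
    have hk6 : k ≤ 6 := by
      by_contra hc
      have := (pow_dvd_pow 2 (show 7 ≤ k by omega)).trans h1
      norm_num at this
    interval_cases k <;> norm_num at h3 hk ⊢ <;> omega
  have hidx : (P : Subgroup K).index = 15 := by
    have := Subgroup.index_mul_card (P : Subgroup K)
    rw [hK.card, hPc] at this; omega
  have hd := P.card_dvd_index
  rw [hidx] at hd
  have := Nat.le_of_dvd (by norm_num) hd
  by_cases h1 : Nat.card (Sylow 2 K) = 1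
  · exfalso
    have : Subsingleton (Sylow 2 K) := (Nat.card_eq_one_iff_unique.mp h1).1
    have : (P : Subgroup K).Normal := P.normal_of_subsingleton
    have := hK.two_normal (P : Subgroup K) (i := 6) (by rw [hPc]; norm_num)
    norm_num at this
  by_cases h3 : Nat.card (Sylow 2 K) = 3
  · exact (hK.no_trans_three (X := Sylow 2 K) h3).elim
  by_cases h5 : Nat.card (Sylow 2 K) = 5
  · exact ⟨Subgroup.normalizer (P : Set K), by rw [← P.card_eq_index_normalizer, h5]⟩
  have h15 : Nat.card (Sylow 2 K) = 15 := by
    interval_cases h : Nat.card (Sylow 2 K) <;> omega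
  have hN : Subgroup.normalizer (P : Set K) = P := by
    refine (Subgroup.eq_of_le_of_card_ge Subgroup.le_normalizer ?_).symm
    have := Subgroup.index_mul_card (Subgroup.normalizer (P : Set K))
    rw [← P.card_eq_index_normalizer, h15, hK.card] at this
    rw [hPc]
    show Nat.card ↥(Subgroup.normalizer (P : Set K)) ≤ 64
    omega
  -- two Sylow subgroups meeting in order 32
  obtain ⟨Q, hQP, hD⟩ : ∃ Q : Sylow 2 K, Q ≠ P ∧ Nat.card ↥((P : Subgroup K) ⊓ Q) = 32 := by
    by_contra hc
    have hmem : ∀ Q : Sylow 2 K, (MulAction.stabilizer (P : Subgroup K) Q).index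
        * Nat.card ↥((P : Subgroup K) ⊓ Q) = 64 := by
      intro Q
      have e : MulAction.stabilizer (P : Subgroup K) Q = ((P : Subgroup K) ⊓ Q).subgroupOf P := by
        ext g
        rw [MulAction.mem_stabilizer_iff, Subgroup.mem_subgroupOf, Subgroup.smul_def,
          Sylow.smul_eq_iff_mem_normalizer]
        constructor
        · intro h
          refine ⟨g.2, ?_⟩
          have hgp : IsPGroup 2 (Subgroup.zpowers (g : K)) :=
            P.2.to_le (Subgroup.zpowers_le.mpr g.2)
          have hle : Subgroup.zpowers (g : K) ⊓ Subgroup.normalizer ((Q : Subgroup K) : Set K) ≤ Q :=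
            (hgp.inf_normalizer_sylow Q).trans_le inf_le_right
          exact hle ⟨Subgroup.mem_zpowers _, h⟩
        · intro h; exact Subgroup.le_normalizer h.2
      rw [e, ← hPc]
      have := Subgroup.index_mul_card (((P : Subgroup K) ⊓ Q).subgroupOf P)
      rwa [Nat.card_congr (Subgroup.subgroupOfEquivOfLe inf_le_left).toEquiv] at this
    have := card_orbits_mod_four (P := (P : Subgroup K)) (X := Sylow 2 K) P (fun g => by
      rw [Subgroup.smul_def, Sylow.smul_eq_iff_mem_normalizer]
      exact Subgroup.le_normalizer g.2) (fun Q hQ => by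
      have e := hmem Q
      set D := Nat.card ↥((P : Subgroup K) ⊓ Q)
      set s := (MulAction.stabilizer (P : Subgroup K) Q).index
      obtain ⟨j, hj6, hj⟩ := (Nat.dvd_prime_pow Nat.prime_two (m := 6)).mp
        (show D ∣ 2 ^ 6 from ⟨s, by rw [mul_comm]; exact e.symm⟩)
      have hD : D ≠ 64 := by
        intro hD
        apply hQ
        apply Sylow.ext
        have h1 : (P : Subgroup K) ⊓ Q = P := Subgroup.eq_of_le_of_card_ge inf_le_left (by rw [hPc]; exact hD.ge)
        have hQc : Nat.card (Q : Subgroup K) = 64 := by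
          rw [← hPc, Q.card_eq_multiplicity, P.card_eq_multiplicity]
        exact (Subgroup.eq_of_le_of_card_ge (inf_eq_left.mp h1) (by rw [hPc, hQc])).symm
      have hD' : D ≠ 32 := fun h => hc ⟨Q, hQ, h⟩
      interval_cases j <;> rw [hj] at e hD hD' <;> omega)
    omega
  set D := (P : Subgroup K) ⊓ Q
  set M := Subgroup.normalizer (D : Set K)
  have hQc : Nat.card (Q : Subgroup K) = 64 := by
    rw [← hPc, Q.card_eq_multiplicity, P.card_eq_multiplicity]
  have hle : ∀ (S : Sylow 2 K), Nat.card (S : Subgroup K) = 64 → D ≤ S → (S : Subgroup K) ≤ M := by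
    intro S hS hDS g hg
    have hn : (D.subgroupOf S).Normal := by
      refine Subgroup.normal_of_index_eq_two ?_
      have := Subgroup.index_mul_card (D.subgroupOf S)
      rw [Nat.card_congr (Subgroup.subgroupOfEquivOfLe hDS).toEquiv, hD, hS] at this
      omega
    have := (Subgroup.normal_subgroupOf_iff_le_normalizer hDS).mp hn
    exact this hg
  have hPM := hle P hPc inf_le_left
  have hQM := hle Q hQc inf_le_right
  have h64 : 64 ∣ Nat.card M := hPc ▸ Subgroup.card_dvd_of_le hPM
  have hne64 : Nat.card M ≠ 64 := by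
    intro h
    apply hQP
    apply Sylow.ext
    rw [Subgroup.eq_of_le_of_card_ge hQM (by omega), Subgroup.eq_of_le_of_card_ge hPM (by omega)]
  have hmul := Subgroup.index_mul_card M
  rw [hK.card] at hmul
  obtain ⟨t, ht⟩ := h64
  have htd : M.index * t = 15 := by
    rw [ht] at hmul
    exact Nat.eq_of_mul_eq_mul_right (show 0 < 64 by norm_num) (by rw [mul_right_comm, mul_assoc]; linarith)
  have hidxd : M.index ∣ 15 := ⟨t, htd.symm⟩
  have := Nat.le_of_dvd (by norm_num) hidxd
  interval_cases hi : M.index <;> (try omega)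
  · exfalso
    have : D.Normal := Subgroup.normalizer_eq_top_iff.mp (Subgroup.index_eq_one.mp hi)
    refine hK.no_quot_thirty D ?_
    have := Subgroup.index_mul_card D
    rw [hD, hK.card] at this; omega
  · exact (hK.no_trans_three (X := K ⧸ M) (by rw [← Subgroup.index_eq_card, hi])).elim
  · exact ⟨M, hi⟩

theorem card_five_perm {n : ℕ} (h : n ∣ 120) (h15 : 15 ∣ n) : n = 15 ∨ n = 30 ∨ n = 60 ∨ n = 120 := by
  obtain ⟨m, rfl⟩ := h15
  have : m ∣ 8 := Nat.dvd_of_mul_dvd_mul_left (show 0 < 15 by norm_num) h
  have := Nat.le_of_dvd (by norm_num) this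
  interval_cases m <;> omega

/-- The kernel of the action on the cosets of a subgroup of index five. -/
theorem kernel (hK : Is960 K) (M : Subgroup K) (hM : M.index = 5) :
    Nat.card M.normalCore = 16 ∧ Nat.card (MulAction.toPermHom K (K ⧸ M)).range = 60 := by
  classical
  cases nonempty_fintype (K ⧸ M)
  have hX : Nat.card (K ⧸ M) = 5 := by rw [← Subgroup.index_eq_card, hM]
  obtain ⟨h1, h2, h3⟩ := hK.card_ker_add (X := K ⧸ M)
  rw [hX] at h2 h3
  rw [show Nat.factorial 5 = 120 from rfl] at h3
  set φ := MulAction.toPermHom K (K ⧸ M)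
  set r := Nat.card φ.range with hr
  set R := φ.ker with hR
  have hidx : R.index = r := Subgroup.index_ker _
  have hcore : M.normalCore = R := Subgroup.normalCore_eq_ker M
  have hr3 : 3 ∣ r := by
    by_contra hc
    obtain ⟨y, hy⟩ : ∃ y : K, orderOf y = 3 := by
      have : Fact (Nat.Prime 3) := ⟨by norm_num⟩
      exact exists_prime_orderOf_dvd_card' 3 (by rw [hK.card]; norm_num)
    have := index_dvd_normalizer (by norm_num) hy hK.not_sq.2 R fun h ho =>
      mem_of_normal R (by norm_num) (by rw [hidx]; exact hc) h ho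
    rw [hidx] at this
    exact hK.norm_three y hy (h2.trans this)
  have h15 : 15 ∣ r := (show Nat.Coprime 3 5 by norm_num).mul_dvd_of_dvd_of_dvd hr3 h2
  have hr60 : r = 60 := by
    have hker : ∀ i : ℕ, Nat.card R = 2 ^ i → 2 ^ i % 5 = 1 ∨ 2 ^ i % 5 = 2 := fun i hi => hK.two_normal R hi
    rcases card_five_perm h3 h15 with e | e | e | e
    · have := hker 6 (by rw [e] at h1; omega)
      norm_num at this
    · exact (hK.no_quot_thirty R (hidx.trans e)).elim
    · exact e
    · have := hker 3 (by rw [e] at h1; omega)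
      norm_num at this
  exact ⟨by rw [hcore]; rw [hr60] at h1; omega, hr60⟩

/-- The action on five points through a subgroup of index five. -/
theorem exists_hom (hK : Is960 K) (M : Subgroup K) (hM : M.index = 5) :
    ∃ (ψ : K →* Equiv.Perm (Fin 5)) (e : K ⧸ M ≃ Fin 5), ψ.ker = M.normalCore ∧
      (∀ g, Equiv.Perm.sign (ψ g) = 1) ∧ ∀ g q, ψ g (e q) = e (g • q) := by
  classical
  cases nonempty_fintype (K ⧸ M)
  let e : K ⧸ M ≃ Fin 5 := Fintype.equivFinOfCardEq (by rw [← Nat.card_eq_fintype_card, ← Subgroup.index_eq_card, hM])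
  refine ⟨e.permCongrHom.toMonoidHom.comp (MulAction.toPermHom K (K ⧸ M)), e, ?_, fun g => ?_, fun g q => ?_⟩
  · rw [Subgroup.normalCore_eq_ker]
    exact MonoidHom.ker_comp_of_injective _ _ e.permCongrHom.injective
  · show Equiv.Perm.sign (e.permCongr (MulAction.toPerm g)) = 1
    rw [Equiv.Perm.sign_permCongr]
    have hA : (MulAction.toPermHom K (K ⧸ M)).range = alternatingGroup (K ⧸ M) := by
      apply Equiv.Perm.eq_alternatingGroup_of_index_eq_two
      have := Subgroup.index_mul_card (MulAction.toPermHom K (K ⧸ M)).range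
      rw [(hK.kernel M hM).2, Nat.card_perm, ← Subgroup.index_eq_card M, hM,
        show Nat.factorial 5 = 120 from rfl] at this
      omega
    have hg : MulAction.toPermHom K (K ⧸ M) g ∈ (MulAction.toPermHom K (K ⧸ M)).range := ⟨g, rfl⟩
    rw [hA] at hg
    exact Equiv.Perm.mem_alternatingGroup.mp hg
  · show e.permCongr (MulAction.toPerm g) (e q) = e (g • q)
    simp

/-- Any normal `2`-group inside a subgroup of index five is inside its core. -/
theorem le_core (M R : Subgroup K) [R.Normal] (h : R ≤ M) : R ≤ M.normalCore :=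
  Subgroup.normal_le_normalCore.mpr h

/-- An element commuting with an element of order five is a power of it. -/
theorem no_invol_cent (hK : Is960 K) {x t : K} (hx : orderOf x = 5) (ht : t * t = 1)
    (hc : Commute t x) : t = 1 := by
  classical
  obtain ⟨M, hM⟩ := hK.exists_index_five
  obtain ⟨ψ, e, hker, hsgn, -⟩ := hK.exists_hom M hM
  obtain ⟨hR, -⟩ := hK.kernel M hM
  have hx1 : ψ x ≠ 1 := by
    intro h
    have hm : x ∈ M.normalCore := hker ▸ (h : x ∈ ψ.ker)
    have := orderOf_dvd_natCard (⟨x, hm⟩ : M.normalCore)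
    rw [← Subgroup.orderOf_coe, hx, hR] at this
    norm_num at this
  have hx5 : ψ x ^ 5 = 1 := by rw [← map_pow, orderOf_dvd_iff_pow_eq_one.mp (dvd_of_eq hx), map_one]
  have ht1 : ψ t = 1 := five_cent (ψ x) (by rw [← hx5]; simp only [pow_succ, pow_zero, one_mul]) hx1 (ψ t)
    (by rw [← map_mul, ht, map_one])
    (by rw [← map_mul, ← map_mul, hc.eq])
  by_contra hne
  have htm : t ∈ M.normalCore := hker ▸ (ht1 : t ∈ ψ.ker)
  have htwo := hK.two_normal M.normalCore (i := 4) (by rw [hR]; norm_num)
  -- the fixed points of `x` on the kernel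
  have : Fact (Nat.Prime 5) := ⟨by norm_num⟩
  let _ : MulAction (Subgroup.zpowers x) M.normalCore :=
    MulAction.compHom _ ((MulAut.conjNormal (H := M.normalCore)).comp (Subgroup.zpowers x).subtype)
  have hp : IsPGroup 5 (Subgroup.zpowers x) :=
    IsPGroup.of_card (n := 1) (by rw [Nat.card_zpowers, hx, pow_one])
  have hmod := hp.card_modEq_card_fixedPoints M.normalCore
  rw [hR, Nat.ModEq] at hmod
  set F := MulAction.fixedPoints (Subgroup.zpowers x) M.normalCore
  have hF : F = ((Subgroup.centralizer ({x} : Set K)).subgroupOf M.normalCore : Set M.normalCore) := by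
    ext m
    simp only [F, MulAction.mem_fixedPoints, SetLike.mem_coe, Subgroup.mem_subgroupOf,
      Subgroup.mem_centralizer_singleton_iff]
    have hs : ∀ g : Subgroup.zpowers x, ((g • m : M.normalCore) : K) = (g : K) * m * (g : K)⁻¹ :=
      fun g => rfl
    constructor
    · intro h
      have := congrArg Subtype.val (h ⟨x, Subgroup.mem_zpowers x⟩)
      rw [hs] at this
      exact (mul_inv_eq_iff_eq_mul.mp this).symm
    · intro h g
      apply Subtype.ext
      rw [hs]
      obtain ⟨k, hk⟩ := Subgroup.mem_zpowers_iff.mp g.2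
      have hc : Commute (m : K) (g : K) := hk ▸ (show Commute (m : K) x from h).zpow_right k
      rw [← hc.eq, mul_inv_cancel_right]
  rw [hF] at hmod
  set C := (Subgroup.centralizer ({x} : Set K)).subgroupOf M.normalCore
  change _ = Nat.card C % 5 at hmod
  have htC : (⟨t, htm⟩ : M.normalCore) ∈ C := Subgroup.mem_centralizer_singleton_iff.mpr hc.eq
  have ho : orderOf (⟨⟨t, htm⟩, htC⟩ : C) = 2 := by
    rw [← Subgroup.orderOf_coe, ← Subgroup.orderOf_coe]
    exact orderOf_eq_prime (by rw [pow_two]; exact ht) hne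
  have h2 : 2 ∣ Nat.card C := ho ▸ orderOf_dvd_natCard _
  have h16 : Nat.card C ∣ 16 := hR ▸ Subgroup.card_subgroup_dvd_card C
  have := Nat.le_of_dvd (by norm_num) h16
  interval_cases hcC : Nat.card C <;> (try omega)
  -- order sixteen: the kernel centralises `x`
  have h10 : 16 ∣ 10 := by
    rw [← hK.norm_five x hx, ← hcC]
    refine (dvd_of_eq (Nat.card_congr (Subgroup.equivMapOfInjective C M.normalCore.subtype
      Subtype.coe_injective).toEquiv)).trans (Subgroup.card_dvd_of_le ?_)
    rintro _ ⟨c, hc', rfl⟩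
    exact cent_le_norm x hc'
  norm_num at h10

end Is960

end CfsgLib.KGroups.MathieuIdent
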